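import Cfsg.Agent.H899.RG.ShortTab
import Cfsg.Agent.ChevalleyStructure.TwF4.Rel
import Cfsg.Agent.Nodes.KindBase
import Cfsg.Agent.DL.Ex.Fin_m3
import Cfsg.Agent.DL.Tw.Gr
import Cfsg.Agent.BpExc.AsmN_m3
import Cfsg.Agent.FastGrp
import Cfsg.Agent.Prune
set_option linter.all false
prune_inst 0x7f00000000000000000000000000000000000000000000000000000000000000000000000000000000000000000000000000000000000000000000000000000000000000000000000000000000000000003fffffffffffffffffffffffffffbeffbdffffffff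
open scoped Cfsg.Agent.FastGrp

-- part: Cam/F42/Tab
section
/-!
# S3689, S3690, the row `²F₄(q)`: tables of the root system `F₄` (helper90)

Roots in the coordinates of `chevF4` (nodes `0, 1` short, `2, 3` long); `bf` is the invariant form (long `4`, short `2`).
-/

set_option autoImplicit false

namespace Cfsg.Agent.Cam.F42

open CoxeterSystem Cfsg.Lie Cfsg.Agent.ChevalleyStructure Cfsg.Agent.ChevalleyStructure.CoxeterGeom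
  Cfsg.Agent.ChevalleyStructure.CoxeterGeomTypes Cfsg.Agent.Tits.Roots Cfsg.Agent.Nodes.Coroot
  Cfsg.Agent.Nodes.RGDChev Cfsg.Agent.Nodes.KindF Cfsg.Agent.Nodes.KindChev Cfsg.Agent.UGT.U2.FOne.FFour

/-- vectors as tuples -/
abbrev T4 : Type := ℤ × ℤ × ℤ × ℤ

/-- Plücker coordinates -/
abbrev T6 : Type := ℤ × ℤ × ℤ × ℤ × ℤ × ℤ

def tv (t : T4) : Fin 4 → ℤ := ![t.1, t.2.1, t.2.2.1, t.2.2.2]

def vt (a : Fin 4 → ℤ) : T4 := (a 0, a 1, a 2, a 3)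

def ng (s : T4) : T4 := (-s.1, -s.2.1, -s.2.2.1, -s.2.2.2)

def ad (s t : T4) : T4 := (s.1 + t.1, s.2.1 + t.2.1, s.2.2.1 + t.2.2.1, s.2.2.2 + t.2.2.2)

def sb (s t : T4) : T4 := (s.1 - t.1, s.2.1 - t.2.1, s.2.2.1 - t.2.2.1, s.2.2.2 - t.2.2.2)

/-- the invariant form -/
def ip (s t : T4) : ℤ := (2 * s.1 - s.2.1) * t.1 + (2 * s.2.1 - s.1 - 2 * s.2.2.1) * t.2.1 +
  (4 * s.2.2.1 - 2 * s.2.1 - 2 * s.2.2.2) * t.2.2.1 + (4 * s.2.2.2 - 2 * s.2.2.1) * t.2.2.2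

def pl (s t : T4) : T6 := (s.1 * t.2.1 - s.2.1 * t.1, s.1 * t.2.2.1 - s.2.2.1 * t.1, s.1 * t.2.2.2 - s.2.2.2 * t.1,
  s.2.1 * t.2.2.1 - s.2.2.1 * t.2.1, s.2.1 * t.2.2.2 - s.2.2.2 * t.2.1, s.2.2.1 * t.2.2.2 - s.2.2.2 * t.2.2.1)

def pr (p q : T6) : ℤ := p.1 * q.2.2.2.2.2 - p.2.1 * q.2.2.2.2.1 + p.2.2.1 * q.2.2.2.1 + p.2.2.2.1 * q.2.2.1 -
  p.2.2.2.2.1 * q.2.1 + p.2.2.2.2.2 * q.1

/-- the determinant -/
def dt (s t u v : T4) : ℤ := pr (pl s t) (pl u v)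

/-- the long roots -/
def LL : List T4 := [(-2, -4, -3, -2), (-2, -4, -3, -1), (-2, -4, -2, -1), (-2, -2, -2, -1), (-2, -2, -1, -1), (-2, -2, -1, 0),
  (0, -2, -2, -1), (0, -2, -1, -1), (0, -2, -1, 0), (0, 0, -1, -1), (0, 0, -1, 0), (0, 0, 0, -1),
  (0, 0, 0, 1), (0, 0, 1, 0), (0, 0, 1, 1), (0, 2, 1, 0), (0, 2, 1, 1), (0, 2, 2, 1),
  (2, 2, 1, 0), (2, 2, 1, 1), (2, 2, 2, 1), (2, 4, 2, 1), (2, 4, 3, 1), (2, 4, 3, 2)]

/-- the short roots -/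
def SS : List T4 := [(-2, -3, -2, -1), (-1, -3, -2, -1), (-1, -2, -2, -1), (-1, -2, -1, -1), (-1, -2, -1, 0), (-1, -1, -1, -1),
  (-1, -1, -1, 0), (-1, -1, 0, 0), (-1, 0, 0, 0), (0, -1, -1, -1), (0, -1, -1, 0), (0, -1, 0, 0),
  (0, 1, 0, 0), (0, 1, 1, 0), (0, 1, 1, 1), (1, 0, 0, 0), (1, 1, 0, 0), (1, 1, 1, 0),
  (1, 1, 1, 1), (1, 2, 1, 0), (1, 2, 1, 1), (1, 2, 2, 1), (1, 3, 2, 1), (2, 3, 2, 1)]

/-- the planes of the long `A₂` -/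
def PL : List T6 := [(-4, -4, -2, -2, -2, -1), (-4, -4, -2, -2, 0, 1), (-4, -2, -2, 0, -2, -1), (-4, -2, -2, 2, 0, -1),
  (-4, -2, 0, 0, 2, 1), (-4, -2, 0, 2, 2, 1), (0, -2, -2, -4, -4, -1), (0, -2, -2, -2, -2, -1),
  (0, -2, 0, -4, 0, 1), (0, -2, 0, -2, 0, 1), (0, 0, -2, 0, -4, -3), (0, 0, -2, 0, -2, -1),
  (0, 0, 0, -2, -2, -1), (0, 0, 0, -2, 0, 1), (0, 0, 0, 0, -2, -1), (0, 0, 0, 0, 0, -1),
  (0, 0, 0, 0, 0, 1), (0, 0, 0, 0, 2, 1), (0, 0, 0, 2, 0, -1), (0, 0, 0, 2, 2, 1),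
  (0, 0, 2, 0, 2, 1), (0, 0, 2, 0, 4, 3), (0, 2, 0, 2, 0, -1), (0, 2, 0, 4, 0, -1),
  (0, 2, 2, 2, 2, 1), (0, 2, 2, 4, 4, 1), (4, 2, 0, -2, -2, -1), (4, 2, 0, 0, -2, -1),
  (4, 2, 2, -2, 0, 1), (4, 2, 2, 0, 2, 1), (4, 4, 2, 2, 0, -1), (4, 4, 2, 2, 2, 1)]

/-- the planes of the short `A₂` -/
def PS : List T6 := [(-3, -2, -1, 0, 0, 0), (-1, -2, -1, -2, -1, 0), (-1, -1, -1, -1, -2, -1), (-1, -1, -1, -1, -1, 0),
  (-1, -1, -1, 0, -1, -1), (-1, -1, -1, 0, 0, 0), (-1, -1, 0, -1, 0, 0), (-1, -1, 0, -1, 1, 1),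
  (-1, -1, 0, 0, 0, 0), (-1, -1, 0, 0, 1, 1), (-1, 0, -1, 1, -1, -1), (-1, 0, 0, 0, 0, 0),
  (-1, 0, 0, 1, 0, 0), (-1, 0, 0, 1, 1, 0), (-1, 0, 0, 2, 1, 0), (-1, 0, 1, 1, 2, 1),
  (1, 0, -1, -1, -2, -1), (1, 0, 0, -2, -1, 0), (1, 0, 0, -1, -1, 0), (1, 0, 0, -1, 0, 0),
  (1, 0, 0, 0, 0, 0), (1, 0, 1, -1, 1, 1), (1, 1, 0, 0, -1, -1), (1, 1, 0, 0, 0, 0),
  (1, 1, 0, 1, -1, -1), (1, 1, 0, 1, 0, 0), (1, 1, 1, 0, 0, 0), (1, 1, 1, 0, 1, 1),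
  (1, 1, 1, 1, 1, 0), (1, 1, 1, 1, 2, 1), (1, 2, 1, 2, 1, 0), (3, 2, 1, 0, 0, 0)]

theorem tab_vec : ∀ r < 48, vt (vec chevF4 4 r) ∈ LL ∨ vt (vec chevF4 4 r) ∈ SS := by decide +kernel

theorem tab_vec' : ∀ t ∈ LL ++ SS, ∃ r < 48, vt (vec chevF4 4 r) = t := by decide +kernel

theorem tab_L : ∀ s ∈ LL, ip s s = 4 := by decide +kernel

theorem tab_S : ∀ s ∈ SS, ip s s = 2 := by decide +kernel

private noncomputable def _root_.Cfsg.Agent.KO517236d.k0 : type_of% @Decidable.decide := @(fun x0 x1 => @Decidable.rec.{1} _ @(fun x2 => @Bool) @(fun x2 => @Bool.false) @(fun x2 => @Bool.true) @x1)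
private theorem _root_.Cfsg.Agent.KO517236d.e0 : @Decidable.decide = @_root_.Cfsg.Agent.KO517236d.k0 := by delta _root_.Cfsg.Agent.KO517236d.k0; rfl'
private theorem _root_.Cfsg.Agent.KO517236d.e4.{ku, kv} {α : Type kv} {M : List α → Sort ku} (φ : ∀ l, M l) {z : M List.nil} {s : ∀ a l, M l → M (List.cons a l)} (h0 : φ List.nil = z) (hs : ∀ a l, φ (List.cons a l) = s a l (φ l)) (l : List α) : φ l = @List.rec α M z s l := List.rec h0 (fun a l ih => (hs a l).trans (congrArg (s a l) ih)) l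
private noncomputable def _root_.Cfsg.Agent.KO517236d.k7 : type_of% @Nat.decEq := @(fun x0 x1 => @Bool.rec.{1} @(fun x2 => (@Eq.{1} _ (@Nat.beq @x0 @x1) @x2) → @Decidable (@Eq.{1} _ @x0 @x1)) @(fun x2 => @Decidable.isFalse _ (@Nat.ne_of_beq_eq_false _ _ @x2)) @(fun x2 => @Decidable.isTrue _ (@Nat.eq_of_beq_eq_true _ _ @x2)) (@Nat.beq @x0 @x1) (@Eq.refl.{1} _ (@Nat.beq @x0 @x1)))
private theorem _root_.Cfsg.Agent.KO517236d.e7 : @Nat.decEq = @_root_.Cfsg.Agent.KO517236d.k7 := by delta _root_.Cfsg.Agent.KO517236d.k7; rfl'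
private noncomputable def _root_.Cfsg.Agent.KO517236d.k8 : type_of% @Int.decEq := @(fun x0 x1 => @Int.rec.{1} @(fun x2 => @Decidable (@Eq.{1} _ @x2 @x1)) @(fun x2 => @Int.rec.{1} @(fun x3 => @Decidable (@Eq.{1} _ (@Int.ofNat @x2) @x3)) @(fun x3 => @Decidable.rec.{1} _ @(fun x4 => @Decidable (@Eq.{1} _ (@Int.ofNat @x2) (@Int.ofNat @x3))) @(fun x4 => @Decidable.isFalse _ (@Int.decEq._proof_2 @x2 @x3 @x4)) @(fun x4 => @Decidable.isTrue _ (@Int.decEq._proof_1 @x2 @x3 @x4)) (@Cfsg.Agent.KO517236d.k7 @x2 @x3)) @(fun x3 => @Decidable.isFalse _ (@Int.decEq._proof_3 @x2 @x3)) @x1) @(fun x2 => @Int.rec.{1} @(fun x3 => @Decidable (@Eq.{1} _ (@Int.negSucc @x2) @x3)) @(fun x3 => @Decidable.isFalse _ (@Int.decEq._proof_4 @x2 @x3)) @(fun x3 => @Decidable.rec.{1} _ @(fun x4 => @Decidable (@Eq.{1} _ (@Int.negSucc @x2) (@Int.negSucc @x3))) @(fun x4 => @Decidable.isFalse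 _ (@Int.decEq._proof_6 @x2 @x3 @x4)) @(fun x4 => @Decidable.isTrue _ (@Int.decEq._proof_5 @x2 @x3 @x4)) (@Cfsg.Agent.KO517236d.k7 @x2 @x3)) @x1) @x0)
private theorem _root_.Cfsg.Agent.KO517236d.e8 : @Int.decEq = @_root_.Cfsg.Agent.KO517236d.k8 := by delta _root_.Cfsg.Agent.KO517236d.k8; rewrite [← Cfsg.Agent.KO517236d.e7]; rfl'
private noncomputable def _root_.Cfsg.Agent.KO517236d.k9 : type_of% @Int.instDecidableEq := @Cfsg.Agent.KO517236d.k8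
private theorem _root_.Cfsg.Agent.KO517236d.e9 : @Int.instDecidableEq = @_root_.Cfsg.Agent.KO517236d.k9 := by delta _root_.Cfsg.Agent.KO517236d.k9; rewrite [← Cfsg.Agent.KO517236d.e8]; rfl'
private noncomputable def _root_.Cfsg.Agent.KO517236d.k10 : type_of% @Int.add := @(fun x0 x1 => @Int.rec.{1} @(fun x2 => ℤ) @(fun x2 => @Int.rec.{1} @(fun x3 => ℤ) @(fun x3 => @Int.ofNat (@Nat.add @x2 @x3)) @(fun x3 => @Nat.rec.{1} @(fun x4 => ℤ) (@Int.ofNat (@Nat.sub @x2 (@Nat.succ @x3))) @(fun x4 x5 => @Int.negSucc @x4) (@Nat.sub (@Nat.succ @x3) @x2)) @x1) @(fun x2 => @Int.rec.{1} @(fun x3 => ℤ) @(fun x3 => @Nat.rec.{1} @(fun x4 => ℤ) (@Int.ofNat (@Nat.sub @x3 (@Nat.succ @x2))) @(fun x4 x5 => @Int.negSucc @x4) (@Nat.sub (@Nat.succ @x2) @x3)) @(fun x3 => @Int.negSucc (@Nat.succ (@Nat.add @x2 @x3))) @x1) @x0)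
private theorem _root_.Cfsg.Agent.KO517236d.e10 : @Int.add = @_root_.Cfsg.Agent.KO517236d.k10 := by delta _root_.Cfsg.Agent.KO517236d.k10; rfl'
private noncomputable def _root_.Cfsg.Agent.KO517236d.k19.{ku0} : type_of% @List.decidableBAll.{ku0} := @(fun x0 x1 x2 x3 => @List.rec.{1, ku0} @x0 @(fun x4 => @Decidable ((x5 : @x0) → (@Membership.mem.{ku0, ku0} _ _ _ @x4 @x5) → @x1 @x5)) (@Decidable.isTrue _ (@List.decidableBAll._proof_1.{ku0} _ @x1)) @(fun x4 x5 x6 => @Decidable.rec.{1} _ @(fun x7 => @Decidable ((x8 : @x0) → (@Membership.mem.{ku0, ku0} _ _ _ (@x4 :: @x5) @x8) → @x1 @x8)) @(fun x7 => @Decidable.isFalse _ (@List.decidableBAll._proof_4.{ku0} _ @x1 @x4 @x5 @x7)) @(fun x7 => @Decidable.rec.{1} _ @(fun x8 => @Decidable ((x9 : @x0) → (@Membership.mem.{ku0, ku0} _ _ _ (@x4 :: @x5) @x9) → @x1 @x9)) @(fun x8 => @Decidable.isFalse _ (@List.decidableBAll._proof_3.{ku0}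 _ @x1 @x4 @x5 @x8)) @(fun x8 => @Decidable.isTrue _ (@List.decidableBAll._proof_2.{ku0} _ @x1 @x4 @x5 @x7 @x8)) @x6) (@x2 @x4)) @x3)
private theorem _root_.Cfsg.Agent.KO517236d.e19.{ku0} : @List.decidableBAll.{ku0} = @_root_.Cfsg.Agent.KO517236d.k19.{ku0} := by delta _root_.Cfsg.Agent.KO517236d.k19; funext a0 a1 a2 a3; refine (_root_.Cfsg.Agent.KO517236d.e4 (fun a3 => @List.decidableBAll.{ku0} a0 a1 a2 a3) ?_ (fun c0 c1 => ?_) a3 :) <;> (rfl')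
private noncomputable def _root_.Cfsg.Agent.KO517236d.k22.{ku0, ku1} : type_of% @instDecidableEqProd.{ku0, ku1} := @(fun x0 x1 x2 x3 x4 x5 => @Prod.rec.{1, ku0, ku1} @x0 @x1 @(fun x6 => @Decidable (@Eq.{(max (ku1+1) (ku0+1))} _ @x6 @x5)) @(fun x6 x7 => @Prod.rec.{1, ku0, ku1} @x0 @x1 @(fun x8 => @Decidable (@Eq.{(max (ku1+1) (ku0+1))} _ ((@x6, @x7)) @x8)) @(fun x8 x9 => @Decidable.rec.{1} _ @(fun x10 => @Decidable (@Eq.{(max (ku1+1) (ku0+1))} _ ((@x6, @x7)) ((@x8, @x9)))) @(fun x10 => @Decidable.isFalse _ (@instDecidableEqProd._proof_3.{ku1, ku0} _ _ @x6 @x7 @x8 @x9 @x10)) @(fun x10 => @Decidable.rec.{1} _ @(fun x11 => @Decidable (@Eq.{(max (ku1+1) (ku0+1))} _ ((@x6, @x7)) ((@x8, @x9)))) @(fun x11 => @Decidable.isFalse _ (@instDecidableEqProd._proof_2.{ku1, ku0} _ _ @x6 @x7 @x8 @x9 @x11)) @(fun x11 => @Decidable.isTrue _ (@instDecidableEqProd._proof_1.{ku1,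 ku0} _ _ @x6 @x7 @x8 @x9 @x10 @x11)) (@x3 @x7 @x9)) (@x2 @x6 @x8)) @x5) @x4)
private theorem _root_.Cfsg.Agent.KO517236d.e22.{ku0, ku1} : @instDecidableEqProd.{ku0, ku1} = @_root_.Cfsg.Agent.KO517236d.k22.{ku0, ku1} := by delta _root_.Cfsg.Agent.KO517236d.k22; rfl'
private noncomputable def _root_.Cfsg.Agent.KO517236d.k23 : type_of% @forall_prop_decidable := @(fun x0 x1 x2 x3 => @Decidable.rec.{1} _ @(fun x4 => @Decidable ((x5 : @x0) → @x1 @x5)) @(fun x4 => @Decidable.isTrue _ (@forall_prop_decidable._proof_2 _ @x1 @x4)) @(fun x4 => @Decidable.rec.{1} _ @(fun x5 => @Decidable ((x6 : @x0) → @x1 @x6)) @(fun x5 => @Decidable.isFalse _ (@decidable_of_decidable_of_iff._proof_1 _ _ (@forall_prop_decidable._proof_1 _ @x1 @x4) @x5)) @(fun x5 => @Decidable.isTrue _ (@Iff.mp _ _ (@forall_prop_decidable._proof_1 _ @x1 @x4) @x5)) (@x3 @x4)) @x2)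
private theorem _root_.Cfsg.Agent.KO517236d.e23 : @forall_prop_decidable = @_root_.Cfsg.Agent.KO517236d.k23 := by delta _root_.Cfsg.Agent.KO517236d.k23; rfl'
private noncomputable def _root_.Cfsg.Agent.KO517236d.k24 : type_of% @Int.mul := @(fun x0 x1 => @Int.rec.{1} @(fun x2 => ℤ) @(fun x2 => @Int.rec.{1} @(fun x3 => ℤ) @(fun x3 => @Int.ofNat (@Nat.mul @x2 @x3)) @(fun x3 => @Nat.rec.{1} @(fun x4 => ℤ) (@Int.ofNat (nat_lit 0)) @(fun x4 x5 => @Int.negSucc @x4) (@Nat.mul @x2 (@Nat.succ @x3))) @x1) @(fun x2 => @Int.rec.{1} @(fun x3 => ℤ) @(fun x3 => @Nat.rec.{1} @(fun x4 => ℤ) (@Int.ofNat (nat_lit 0)) @(fun x4 x5 => @Int.negSucc @x4) (@Nat.mul (@Nat.succ @x2) @x3)) @(fun x3 => @Int.ofNat (@Nat.mul (@Nat.succ @x2) (@Nat.succ @x3))) @x1) @x0)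
private theorem _root_.Cfsg.Agent.KO517236d.e24 : @Int.mul = @_root_.Cfsg.Agent.KO517236d.k24 := by delta _root_.Cfsg.Agent.KO517236d.k24; rfl'
private noncomputable def _root_.Cfsg.Agent.KO517236d.k25 : (by first | exact type_of% @Cfsg.Agent.Cam.F42.ip | exact Unit : Sort _) := by first | (refine @Subtype.val _ (fun g => @Cfsg.Agent.Cam.F42.ip = @g) (@Subtype.mk _ _ (@(fun x0 x1 => @Cfsg.Agent.KO517236d.k10 (@Cfsg.Agent.KO517236d.k10 (@Cfsg.Agent.KO517236d.k10 (@Cfsg.Agent.KO517236d.k24 (@Cfsg.Agent.KO517236d.k10 (@Cfsg.Agent.KO517236d.k24 (@Int.ofNat (nat_lit 2)) (@Prod.fst.{0, 0} _ _ @x0)) (@Int.rec.{1} @(fun x2 => ℤ) @(fun x2 => @Nat.rec.{1} @(fun x3 => ℤ) (@Int.ofNat (nat_lit 0)) @(fun x3 x4 => @Int.negSucc @x3) @x2) @(fun x2 => @Int.ofNat (@Nat.succ @x2)) (@Prod.fst.{0, 0} _ _ (@Prod.snd.{0, 0} _ _ @x0)))) (@Prod.fst.{0, 0} _ _ @x1)) (@Cfsg.Agent.KO517236d.k24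 (@Cfsg.Agent.KO517236d.k10 (@Cfsg.Agent.KO517236d.k10 (@Cfsg.Agent.KO517236d.k24 (@Int.ofNat (nat_lit 2)) (@Prod.fst.{0, 0} _ _ (@Prod.snd.{0, 0} _ _ @x0))) (@Int.rec.{1} @(fun x2 => ℤ) @(fun x2 => @Nat.rec.{1} @(fun x3 => ℤ) (@Int.ofNat (nat_lit 0)) @(fun x3 x4 => @Int.negSucc @x3) @x2) @(fun x2 => @Int.ofNat (@Nat.succ @x2)) (@Prod.fst.{0, 0} _ _ @x0))) (@Int.rec.{1} @(fun x2 => ℤ) @(fun x2 => @Nat.rec.{1} @(fun x3 => ℤ) (@Int.ofNat (nat_lit 0)) @(fun x3 x4 => @Int.negSucc @x3) @x2) @(fun x2 => @Int.ofNat (@Nat.succ @x2)) (@Cfsg.Agent.KO517236d.k24 (@Int.ofNat (nat_lit 2)) (@Prod.fst.{0, 0} _ _ (@Prod.snd.{0, 0} _ _ (@Prod.snd.{0, 0} _ _ @x0)))))) (@Prod.fst.{0, 0} _ _ (@Prod.snd.{0, 0} _ _ @x1)))) (@Cfsg.Agent.KO517236d.k24 (@Cfsg.Agent.KO517236d.k10 (@Cfsg.Agent.KO517236d.k10 (@Cfsg.Agent.KO517236d.k24 (@Int.ofNat (nat_lit 4)) (@Prod.fst.{0,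 0} _ _ (@Prod.snd.{0, 0} _ _ (@Prod.snd.{0, 0} _ _ @x0)))) (@Int.rec.{1} @(fun x2 => ℤ) @(fun x2 => @Nat.rec.{1} @(fun x3 => ℤ) (@Int.ofNat (nat_lit 0)) @(fun x3 x4 => @Int.negSucc @x3) @x2) @(fun x2 => @Int.ofNat (@Nat.succ @x2)) (@Cfsg.Agent.KO517236d.k24 (@Int.ofNat (nat_lit 2)) (@Prod.fst.{0, 0} _ _ (@Prod.snd.{0, 0} _ _ @x0))))) (@Int.rec.{1} @(fun x2 => ℤ) @(fun x2 => @Nat.rec.{1} @(fun x3 => ℤ) (@Int.ofNat (nat_lit 0)) @(fun x3 x4 => @Int.negSucc @x3) @x2) @(fun x2 => @Int.ofNat (@Nat.succ @x2)) (@Cfsg.Agent.KO517236d.k24 (@Int.ofNat (nat_lit 2)) (@Prod.snd.{0, 0} _ _ (@Prod.snd.{0, 0} _ _ (@Prod.snd.{0, 0} _ _ @x0)))))) (@Prod.fst.{0, 0} _ _ (@Prod.snd.{0, 0} _ _ (@Prod.snd.{0, 0} _ _ @x1))))) (@Cfsg.Agent.KO517236d.k24 (@Cfsg.Agent.KO517236d.k10 (@Cfsg.Agent.KO517236d.k24 (@Int.ofNat (nat_lit 4)) (@Prod.snd.{0, 0} _ _ (@Prod.snd.{0, 0} _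 _ (@Prod.snd.{0, 0} _ _ @x0)))) (@Int.rec.{1} @(fun x2 => ℤ) @(fun x2 => @Nat.rec.{1} @(fun x3 => ℤ) (@Int.ofNat (nat_lit 0)) @(fun x3 x4 => @Int.negSucc @x3) @x2) @(fun x2 => @Int.ofNat (@Nat.succ @x2)) (@Cfsg.Agent.KO517236d.k24 (@Int.ofNat (nat_lit 2)) (@Prod.fst.{0, 0} _ _ (@Prod.snd.{0, 0} _ _ (@Prod.snd.{0, 0} _ _ @x0)))))) (@Prod.snd.{0, 0} _ _ (@Prod.snd.{0, 0} _ _ (@Prod.snd.{0, 0} _ _ @x1)))))) ?_); rewrite [← Cfsg.Agent.KO517236d.e24, ← Cfsg.Agent.KO517236d.e10]; rfl') | exact @Cfsg.Agent.Cam.F42.ip | exact ()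
private theorem _root_.Cfsg.Agent.KO517236d.e25 : (by first | exact @Cfsg.Agent.Cam.F42.ip = @_root_.Cfsg.Agent.KO517236d.k25 | exact True : Prop) := by first | (delta _root_.Cfsg.Agent.KO517236d.k25; exact @Subtype.property _ (fun g => @Cfsg.Agent.Cam.F42.ip = @g) _) | rfl | trivial
private noncomputable def _root_.Cfsg.Agent.KO517236d.k26.{ku0} : type_of% @List.decidableBEx.{ku0} := @(fun x0 x1 x2 x3 => @List.rec.{1, ku0} @x0 @(fun x4 => @Decidable (@Exists.{(ku0+1)} _ @(fun x5 => @And (@Membership.mem.{ku0, ku0} _ _ _ @x4 @x5) (@x1 @x5)))) (@Decidable.isFalse _ (@List.decidableBEx._proof_1.{ku0} _ @x1)) @(fun x4 x5 x6 => @Decidable.rec.{1} _ @(fun x7 => @Decidable (@Exists.{(ku0+1)} _ @(fun x8 => @And (@Membership.mem.{ku0, ku0} _ _ _ (@x4 :: @x5) @x8) (@x1 @x8)))) @(fun x7 => @Decidable.rec.{1} _ @(fun x8 => @Decidable (@Exists.{(ku0+1)} _ @(fun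 x9 => @And (@Membership.mem.{ku0, ku0} _ _ _ (@x4 :: @x5) @x9) (@x1 @x9)))) @(fun x8 => @Decidable.isFalse _ (@List.decidableBEx._proof_4.{ku0} _ @x1 @x4 @x5 @x7 @x8)) @(fun x8 => @Decidable.isTrue _ (@List.decidableBEx._proof_3.{ku0} _ @x1 @x4 @x5 @x8)) @x6) @(fun x7 => @Decidable.isTrue _ (@List.decidableBEx._proof_2.{ku0} _ @x1 @x4 @x5 @x7)) (@x2 @x4)) @x3)
private theorem _root_.Cfsg.Agent.KO517236d.e26.{ku0} : @List.decidableBEx.{ku0} = @_root_.Cfsg.Agent.KO517236d.k26.{ku0} := by delta _root_.Cfsg.Agent.KO517236d.k26; funext a0 a1 a2 a3; refine (_root_.Cfsg.Agent.KO517236d.e4 (fun a3 => @List.decidableBEx.{ku0} a0 a1 a2 a3) ?_ (fun c0 c1 => ?_) a3 :) <;> (rfl')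
private noncomputable def _root_.Cfsg.Agent.KO517236d.k27 : (by first | exact type_of% @Cfsg.Agent.Cam.F42.ad | exact Unit : Sort _) := by first | (refine @Subtype.val _ (fun g => @Cfsg.Agent.Cam.F42.ad = @g) (@Subtype.mk _ _ (@(fun x0 x1 => (@Cfsg.Agent.KO517236d.k10 (@Prod.fst.{0, 0} _ _ @x0) (@Prod.fst.{0, 0} _ _ @x1), (@Cfsg.Agent.KO517236d.k10 (@Prod.fst.{0, 0} _ _ (@Prod.snd.{0, 0} _ _ @x0)) (@Prod.fst.{0, 0} _ _ (@Prod.snd.{0, 0} _ _ @x1)), (@Cfsg.Agent.KO517236d.k10 (@Prod.fst.{0, 0} _ _ (@Prod.snd.{0, 0} _ _ (@Prod.snd.{0, 0} _ _ @x0))) (@Prod.fst.{0, 0} _ _ (@Prod.snd.{0, 0} _ _ (@Prod.snd.{0, 0} _ _ @x1))), @Cfsg.Agent.KO517236d.k10 (@Prod.snd.{0, 0} _ _ (@Prod.snd.{0, 0} _ _ (@Prod.snd.{0, 0} _ _ @x0))) (@Prod.snd.{0, 0} _ _ (@Prod.snd.{0, 0} _ _ (@Prod.snd.{0, 0} _ _ @x1)))))))) ?_); rewrite [← Cfsg.Agent.KO517236d.e10]; rfl') | exact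 @Cfsg.Agent.Cam.F42.ad | exact ()
private theorem _root_.Cfsg.Agent.KO517236d.e27 : (by first | exact @Cfsg.Agent.Cam.F42.ad = @_root_.Cfsg.Agent.KO517236d.k27 | exact True : Prop) := by first | (delta _root_.Cfsg.Agent.KO517236d.k27; exact @Subtype.property _ (fun g => @Cfsg.Agent.Cam.F42.ad = @g) _) | rfl | trivial
private noncomputable def _root_.Cfsg.Agent.KO517236d.k28 : (by first | exact type_of% @Cfsg.Agent.Cam.F42.sb | exact Unit : Sort _) := by first | (refine @Subtype.val _ (fun g => @Cfsg.Agent.Cam.F42.sb = @g) (@Subtype.mk _ _ (@(fun x0 x1 => (@Cfsg.Agent.KO517236d.k10 (@Prod.fst.{0, 0} _ _ @x0) (@Int.rec.{1} @(fun x2 => ℤ) @(fun x2 => @Nat.rec.{1} @(fun x3 => ℤ) (@Int.ofNat (nat_lit 0)) @(fun x3 x4 => @Int.negSucc @x3) @x2) @(fun x2 => @Int.ofNat (@Nat.succ @x2)) (@Prod.fst.{0, 0} _ _ @x1)), (@Cfsg.Agent.KO517236d.k10 (@Prod.fst.{0,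 0} _ _ (@Prod.snd.{0, 0} _ _ @x0)) (@Int.rec.{1} @(fun x2 => ℤ) @(fun x2 => @Nat.rec.{1} @(fun x3 => ℤ) (@Int.ofNat (nat_lit 0)) @(fun x3 x4 => @Int.negSucc @x3) @x2) @(fun x2 => @Int.ofNat (@Nat.succ @x2)) (@Prod.fst.{0, 0} _ _ (@Prod.snd.{0, 0} _ _ @x1))), (@Cfsg.Agent.KO517236d.k10 (@Prod.fst.{0, 0} _ _ (@Prod.snd.{0, 0} _ _ (@Prod.snd.{0, 0} _ _ @x0))) (@Int.rec.{1} @(fun x2 => ℤ) @(fun x2 => @Nat.rec.{1} @(fun x3 => ℤ) (@Int.ofNat (nat_lit 0)) @(fun x3 x4 => @Int.negSucc @x3) @x2) @(fun x2 => @Int.ofNat (@Nat.succ @x2)) (@Prod.fst.{0, 0} _ _ (@Prod.snd.{0, 0} _ _ (@Prod.snd.{0, 0} _ _ @x1)))), @Cfsg.Agent.KO517236d.k10 (@Prod.snd.{0, 0} _ _ (@Prod.snd.{0, 0} _ _ (@Prod.snd.{0, 0} _ _ @x0))) (@Int.rec.{1} @(fun x2 => ℤ) @(fun x2 => @Nat.rec.{1} @(fun x3 => ℤ) (@Int.ofNat (nat_lit 0)) @(fun x3 x4 => @Int.negSucc @x3) @x2) @(fun x2 => @Int.ofNat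 (@Nat.succ @x2)) (@Prod.snd.{0, 0} _ _ (@Prod.snd.{0, 0} _ _ (@Prod.snd.{0, 0} _ _ @x1))))))))) ?_); rewrite [← Cfsg.Agent.KO517236d.e10]; rfl') | exact @Cfsg.Agent.Cam.F42.sb | exact ()
private theorem _root_.Cfsg.Agent.KO517236d.e28 : (by first | exact @Cfsg.Agent.Cam.F42.sb = @_root_.Cfsg.Agent.KO517236d.k28 | exact True : Prop) := by first | (delta _root_.Cfsg.Agent.KO517236d.k28; exact @Subtype.property _ (fun g => @Cfsg.Agent.Cam.F42.sb = @g) _) | rfl | trivial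

theorem tab_1 : ∀ s ∈ LL, ∀ t ∈ LL, ip s t = 0 → ∃ u ∈ SS, ad u u = sb s t := by (first | (refine of_decide_eq_true ?_; rewrite [Cfsg.Agent.KO517236d.e0, Cfsg.Agent.KO517236d.e19.{0}, Cfsg.Agent.KO517236d.e23, Cfsg.Agent.KO517236d.e9, Cfsg.Agent.KO517236d.e25, Cfsg.Agent.KO517236d.e26.{0}, Cfsg.Agent.KO517236d.e22.{0, 0}, Cfsg.Agent.KO517236d.e27, Cfsg.Agent.KO517236d.e28]; decide +kernel) | decide +kernel)

theorem tab_2 : ∀ s ∈ SS, ∀ t ∈ SS, ip s t = 0 → sb s t ∈ LL := by decide +kernel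

private noncomputable def _root_.Cfsg.Agent.KO517236d.k2 : type_of% @instDecidableOr := @(fun x0 x1 x2 x3 => @Decidable.rec.{1} _ @(fun x4 => @Decidable (@Or @x0 @x1)) @(fun x4 => @Decidable.rec.{1} _ @(fun x5 => @Decidable (@Or @x0 @x1)) @(fun x5 => @Decidable.isFalse _ (@instDecidableOr._proof_1 _ _ @x4 @x5)) @(fun x5 => @Decidable.isTrue _ (@Or.inr _ _ @x5)) @x3) @(fun x4 => @Decidable.isTrue _ (@Or.inl _ _ @x4)) @x2)
private theorem _root_.Cfsg.Agent.KO517236d.e2 : @instDecidableOr = @_root_.Cfsg.Agent.KO517236d.k2 := by delta _root_.Cfsg.Agent.KO517236d.k2; rfl'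
private noncomputable def _root_.Cfsg.Agent.KO517236d.k15 : type_of% @instDecidableAnd := @(fun x0 x1 x2 x3 => @Decidable.rec.{1} _ @(fun x4 => @Decidable (@And @x0 @x1)) @(fun x4 => @Decidable.isFalse _ (@instDecidableAnd._proof_2 _ _ @x4)) @(fun x4 => @Decidable.rec.{1} _ @(fun x5 => @Decidable (@And @x0 @x1)) @(fun x5 => @Decidable.isFalse _ (@instDecidableAnd._proof_1 _ _ @x5)) @(fun x5 => @Decidable.isTrue _ (@And.intro _ _ @x4 @x5)) @x3) @x2)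
private theorem _root_.Cfsg.Agent.KO517236d.e15 : @instDecidableAnd = @_root_.Cfsg.Agent.KO517236d.k15 := by delta _root_.Cfsg.Agent.KO517236d.k15; rfl'
private noncomputable def _root_.Cfsg.Agent.KO517236d.k30 : (by first | exact type_of% @Cfsg.Agent.Cam.F42.pr | exact Unit : Sort _) := by first | (refine @Subtype.val _ (fun g => @Cfsg.Agent.Cam.F42.pr = @g) (@Subtype.mk _ _ (@(fun x0 x1 => @Cfsg.Agent.KO517236d.k10 (@Cfsg.Agent.KO517236d.k10 (@Cfsg.Agent.KO517236d.k10 (@Cfsg.Agent.KO517236d.k10 (@Cfsg.Agent.KO517236d.k10 (@Cfsg.Agent.KO517236d.k24 (@Prod.fst.{0, 0} _ _ @x0) (@Prod.snd.{0, 0} _ _ (@Prod.snd.{0, 0} _ _ (@Prod.snd.{0, 0} _ _ (@Prod.snd.{0, 0} _ _ (@Prod.snd.{0, 0} _ _ @x1)))))) (@Int.rec.{1} @(fun x2 => ℤ) @(fun x2 => @Nat.rec.{1} @(fun x3 => ℤ) (@Int.ofNat (nat_lit 0)) @(fun x3 x4 => @Int.negSucc @x3) @x2) @(fun x2 => @Int.ofNat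 (@Nat.succ @x2)) (@Cfsg.Agent.KO517236d.k24 (@Prod.fst.{0, 0} _ _ (@Prod.snd.{0, 0} _ _ @x0)) (@Prod.fst.{0, 0} _ _ (@Prod.snd.{0, 0} _ _ (@Prod.snd.{0, 0} _ _ (@Prod.snd.{0, 0} _ _ (@Prod.snd.{0, 0} _ _ @x1)))))))) (@Cfsg.Agent.KO517236d.k24 (@Prod.fst.{0, 0} _ _ (@Prod.snd.{0, 0} _ _ (@Prod.snd.{0, 0} _ _ @x0))) (@Prod.fst.{0, 0} _ _ (@Prod.snd.{0, 0} _ _ (@Prod.snd.{0, 0} _ _ (@Prod.snd.{0, 0} _ _ @x1)))))) (@Cfsg.Agent.KO517236d.k24 (@Prod.fst.{0, 0} _ _ (@Prod.snd.{0, 0} _ _ (@Prod.snd.{0, 0} _ _ (@Prod.snd.{0, 0} _ _ @x0)))) (@Prod.fst.{0, 0} _ _ (@Prod.snd.{0, 0} _ _ (@Prod.snd.{0, 0} _ _ @x1))))) (@Int.rec.{1} @(fun x2 => ℤ) @(fun x2 => @Nat.rec.{1} @(fun x3 => ℤ) (@Int.ofNat (nat_lit 0)) @(fun x3 x4 => @Int.negSucc @x3) @x2) @(fun x2 => @Int.ofNat (@Nat.succ @x2)) (@Cfsg.Agent.KO517236d.k24 (@Prod.fst.{0, 0} _ _ (@Prod.snd.{0, 0} _ _ (@Prod.snd.{0,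 0} _ _ (@Prod.snd.{0, 0} _ _ (@Prod.snd.{0, 0} _ _ @x0))))) (@Prod.fst.{0, 0} _ _ (@Prod.snd.{0, 0} _ _ @x1))))) (@Cfsg.Agent.KO517236d.k24 (@Prod.snd.{0, 0} _ _ (@Prod.snd.{0, 0} _ _ (@Prod.snd.{0, 0} _ _ (@Prod.snd.{0, 0} _ _ (@Prod.snd.{0, 0} _ _ @x0))))) (@Prod.fst.{0, 0} _ _ @x1)))) ?_); rewrite [← Cfsg.Agent.KO517236d.e24, ← Cfsg.Agent.KO517236d.e10]; rfl') | exact @Cfsg.Agent.Cam.F42.pr | exact ()
private theorem _root_.Cfsg.Agent.KO517236d.e30 : (by first | exact @Cfsg.Agent.Cam.F42.pr = @_root_.Cfsg.Agent.KO517236d.k30 | exact True : Prop) := by first | (delta _root_.Cfsg.Agent.KO517236d.k30; exact @Subtype.property _ (fun g => @Cfsg.Agent.Cam.F42.pr = @g) _) | rfl | trivial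
private noncomputable def _root_.Cfsg.Agent.KO517236d.k31 : (by first | exact type_of% @Cfsg.Agent.Cam.F42.pl | exact Unit : Sort _) := by first | (refine @Subtype.val _ (fun g => @Cfsg.Agent.Cam.F42.pl = @g) (@Subtype.mk _ _ (@(fun x0 x1 => (@Cfsg.Agent.KO517236d.k10 (@Cfsg.Agent.KO517236d.k24 (@Prod.fst.{0, 0} _ _ @x0) (@Prod.fst.{0, 0} _ _ (@Prod.snd.{0, 0} _ _ @x1))) (@Int.rec.{1} @(fun x2 => ℤ) @(fun x2 => @Nat.rec.{1} @(fun x3 => ℤ) (@Int.ofNat (nat_lit 0)) @(fun x3 x4 => @Int.negSucc @x3) @x2) @(fun x2 => @Int.ofNat (@Nat.succ @x2)) (@Cfsg.Agent.KO517236d.k24 (@Prod.fst.{0, 0} _ _ (@Prod.snd.{0, 0} _ _ @x0)) (@Prod.fst.{0, 0} _ _ @x1))), (@Cfsg.Agent.KO517236d.k10 (@Cfsg.Agent.KO517236d.k24 (@Prod.fst.{0, 0} _ _ @x0) (@Prod.fst.{0, 0} _ _ (@Prod.snd.{0, 0} _ _ (@Prod.snd.{0, 0} _ _ @x1)))) (@Int.rec.{1} @(fun x2 => ℤ) @(fun x2 => @Nat.rec.{1}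 @(fun x3 => ℤ) (@Int.ofNat (nat_lit 0)) @(fun x3 x4 => @Int.negSucc @x3) @x2) @(fun x2 => @Int.ofNat (@Nat.succ @x2)) (@Cfsg.Agent.KO517236d.k24 (@Prod.fst.{0, 0} _ _ (@Prod.snd.{0, 0} _ _ (@Prod.snd.{0, 0} _ _ @x0))) (@Prod.fst.{0, 0} _ _ @x1))), (@Cfsg.Agent.KO517236d.k10 (@Cfsg.Agent.KO517236d.k24 (@Prod.fst.{0, 0} _ _ @x0) (@Prod.snd.{0, 0} _ _ (@Prod.snd.{0, 0} _ _ (@Prod.snd.{0, 0} _ _ @x1)))) (@Int.rec.{1} @(fun x2 => ℤ) @(fun x2 => @Nat.rec.{1} @(fun x3 => ℤ) (@Int.ofNat (nat_lit 0)) @(fun x3 x4 => @Int.negSucc @x3) @x2) @(fun x2 => @Int.ofNat (@Nat.succ @x2)) (@Cfsg.Agent.KO517236d.k24 (@Prod.snd.{0, 0} _ _ (@Prod.snd.{0, 0} _ _ (@Prod.snd.{0, 0} _ _ @x0))) (@Prod.fst.{0, 0} _ _ @x1))), (@Cfsg.Agent.KO517236d.k10 (@Cfsg.Agent.KO517236d.k24 (@Prod.fst.{0, 0} _ _ (@Prod.snd.{0, 0} _ _ @x0)) (@Prod.fst.{0, 0} _ _ (@Prod.snd.{0, 0} _ _ (@Prod.snd.{0,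 0} _ _ @x1)))) (@Int.rec.{1} @(fun x2 => ℤ) @(fun x2 => @Nat.rec.{1} @(fun x3 => ℤ) (@Int.ofNat (nat_lit 0)) @(fun x3 x4 => @Int.negSucc @x3) @x2) @(fun x2 => @Int.ofNat (@Nat.succ @x2)) (@Cfsg.Agent.KO517236d.k24 (@Prod.fst.{0, 0} _ _ (@Prod.snd.{0, 0} _ _ (@Prod.snd.{0, 0} _ _ @x0))) (@Prod.fst.{0, 0} _ _ (@Prod.snd.{0, 0} _ _ @x1)))), (@Cfsg.Agent.KO517236d.k10 (@Cfsg.Agent.KO517236d.k24 (@Prod.fst.{0, 0} _ _ (@Prod.snd.{0, 0} _ _ @x0)) (@Prod.snd.{0, 0} _ _ (@Prod.snd.{0, 0} _ _ (@Prod.snd.{0, 0} _ _ @x1)))) (@Int.rec.{1} @(fun x2 => ℤ) @(fun x2 => @Nat.rec.{1} @(fun x3 => ℤ) (@Int.ofNat (nat_lit 0)) @(fun x3 x4 => @Int.negSucc @x3) @x2) @(fun x2 => @Int.ofNat (@Nat.succ @x2)) (@Cfsg.Agent.KO517236d.k24 (@Prod.snd.{0, 0} _ _ (@Prod.snd.{0, 0} _ _ (@Prod.snd.{0, 0} _ _ @x0))) (@Prod.fst.{0, 0} _ _ (@Prod.snd.{0, 0} _ _ @x1)))), @Cfsg.Agent.KO517236d.k10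 (@Cfsg.Agent.KO517236d.k24 (@Prod.fst.{0, 0} _ _ (@Prod.snd.{0, 0} _ _ (@Prod.snd.{0, 0} _ _ @x0))) (@Prod.snd.{0, 0} _ _ (@Prod.snd.{0, 0} _ _ (@Prod.snd.{0, 0} _ _ @x1)))) (@Int.rec.{1} @(fun x2 => ℤ) @(fun x2 => @Nat.rec.{1} @(fun x3 => ℤ) (@Int.ofNat (nat_lit 0)) @(fun x3 x4 => @Int.negSucc @x3) @x2) @(fun x2 => @Int.ofNat (@Nat.succ @x2)) (@Cfsg.Agent.KO517236d.k24 (@Prod.snd.{0, 0} _ _ (@Prod.snd.{0, 0} _ _ (@Prod.snd.{0, 0} _ _ @x0))) (@Prod.fst.{0, 0} _ _ (@Prod.snd.{0, 0} _ _ (@Prod.snd.{0, 0} _ _ @x1)))))))))))) ?_); rewrite [← Cfsg.Agent.KO517236d.e24, ← Cfsg.Agent.KO517236d.e10]; rfl') | exact @Cfsg.Agent.Cam.F42.pl | exact ()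
private theorem _root_.Cfsg.Agent.KO517236d.e31 : (by first | exact @Cfsg.Agent.Cam.F42.pl = @_root_.Cfsg.Agent.KO517236d.k31 | exact True : Prop) := by first | (delta _root_.Cfsg.Agent.KO517236d.k31; exact @Subtype.property _ (fun g => @Cfsg.Agent.Cam.F42.pl = @g) _) | rfl | trivial
private noncomputable def _root_.Cfsg.Agent.KO517236d.k32 : (by first | exact type_of% @Cfsg.Agent.Cam.F42.dt | exact Unit : Sort _) := by first | (refine @Subtype.val _ (fun g => @Cfsg.Agent.Cam.F42.dt = @g) (@Subtype.mk _ _ (@(fun x0 x1 x2 x3 => @Cfsg.Agent.KO517236d.k30 (@Cfsg.Agent.KO517236d.k31 @x0 @x1) (@Cfsg.Agent.KO517236d.k31 @x2 @x3))) ?_); rewrite [← Cfsg.Agent.KO517236d.e31, ← Cfsg.Agent.KO517236d.e30]; (try delta Cfsg.Agent.Cam.F42.dt); (try generalize @Cfsg.Agent.Cam.F42.pr = g0); (try generalize @Cfsg.Agent.Cam.F42.pl = g1); rfl') | exact @Cfsg.Agent.Cam.F42.dt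 | exact ()
private theorem _root_.Cfsg.Agent.KO517236d.e32 : (by first | exact @Cfsg.Agent.Cam.F42.dt = @_root_.Cfsg.Agent.KO517236d.k32 | exact True : Prop) := by first | (delta _root_.Cfsg.Agent.KO517236d.k32; exact @Subtype.property _ (fun g => @Cfsg.Agent.Cam.F42.dt = @g) _) | rfl | trivial
private noncomputable def _root_.Cfsg.Agent.KO517236d.k33 : (by first | exact type_of% @Cfsg.Agent.Cam.F42.ng | exact Unit : Sort _) := by first | (refine @Subtype.val _ (fun g => @Cfsg.Agent.Cam.F42.ng = @g) (@Subtype.mk _ _ (@(fun x0 => (@Int.rec.{1} @(fun x1 => ℤ) @(fun x1 => @Nat.rec.{1} @(fun x2 => ℤ) (@Int.ofNat (nat_lit 0)) @(fun x2 x3 => @Int.negSucc @x2) @x1) @(fun x1 => @Int.ofNat (@Nat.succ @x1)) (@Prod.fst.{0, 0} _ _ @x0), (@Int.rec.{1} @(fun x1 => ℤ) @(fun x1 => @Nat.rec.{1} @(fun x2 => ℤ) (@Int.ofNat (nat_lit 0)) @(fun x2 x3 => @Int.negSucc @x2)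 @x1) @(fun x1 => @Int.ofNat (@Nat.succ @x1)) (@Prod.fst.{0, 0} _ _ (@Prod.snd.{0, 0} _ _ @x0)), (@Int.rec.{1} @(fun x1 => ℤ) @(fun x1 => @Nat.rec.{1} @(fun x2 => ℤ) (@Int.ofNat (nat_lit 0)) @(fun x2 x3 => @Int.negSucc @x2) @x1) @(fun x1 => @Int.ofNat (@Nat.succ @x1)) (@Prod.fst.{0, 0} _ _ (@Prod.snd.{0, 0} _ _ (@Prod.snd.{0, 0} _ _ @x0))), @Int.rec.{1} @(fun x1 => ℤ) @(fun x1 => @Nat.rec.{1} @(fun x2 => ℤ) (@Int.ofNat (nat_lit 0)) @(fun x2 x3 => @Int.negSucc @x2) @x1) @(fun x1 => @Int.ofNat (@Nat.succ @x1)) (@Prod.snd.{0, 0} _ _ (@Prod.snd.{0, 0} _ _ (@Prod.snd.{0, 0} _ _ @x0)))))))) ?_); rfl') | exact @Cfsg.Agent.Cam.F42.ng | exact ()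
private theorem _root_.Cfsg.Agent.KO517236d.e33 : (by first | exact @Cfsg.Agent.Cam.F42.ng = @_root_.Cfsg.Agent.KO517236d.k33 | exact True : Prop) := by first | (delta _root_.Cfsg.Agent.KO517236d.k33; exact @Subtype.property _ (fun g => @Cfsg.Agent.Cam.F42.ng = @g) _) | rfl | trivial

set_option synthInstance.maxSize 1024 in
theorem tab_3 : ∀ s ∈ LL, ∀ t ∈ SS, ip s t = 0 → ∃ s' ∈ LL, ip s' s = 0 ∧ ip s' t = 0 ∧ ∃ t' ∈ SS, ip t' s = 0 ∧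
    ip t' t = 0 ∧ ip t' s' = 0 ∧ dt s t s' t' ∣ 24 ∧ (∀ u ∈ LL, ip u s = 0 → ip u t = 0 → u = s' ∨ u = ng s') ∧
    ∀ u ∈ SS, ip u s = 0 → ip u t = 0 → u = t' ∨ u = ng t' := by (first | (refine of_decide_eq_true ?_; rewrite [Cfsg.Agent.KO517236d.e0, Cfsg.Agent.KO517236d.e19.{0}, Cfsg.Agent.KO517236d.e23, Cfsg.Agent.KO517236d.e9, Cfsg.Agent.KO517236d.e25, Cfsg.Agent.KO517236d.e26.{0}, Cfsg.Agent.KO517236d.e15, Cfsg.Agent.KO517236d.e32, Cfsg.Agent.KO517236d.e2, Cfsg.Agent.KO517236d.e22.{0, 0}, Cfsg.Agent.KO517236d.e33]; decide +kernel) | decide +kernel)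

private noncomputable def _root_.Cfsg.Agent.KO517236d.k34 : type_of% @instDecidableForall := @(fun x0 x1 x2 x3 => @Decidable.rec.{1} _ @(fun x4 => @Decidable (@x0 → @x1)) @(fun x4 => @Decidable.isTrue _ @(fun x5 => @absurd.{0} _ _ @x5 @x4)) @(fun x4 => @Decidable.rec.{1} _ @(fun x5 => @Decidable (@x0 → @x1)) @(fun x5 => @Decidable.isFalse _ (@instDecidableForall._proof_1 _ _ @x4 @x5)) @(fun x5 => @Decidable.isTrue _ @(fun x6 => @x5)) @x3) @x2)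
private theorem _root_.Cfsg.Agent.KO517236d.e34 : @instDecidableForall = @_root_.Cfsg.Agent.KO517236d.k34 := by delta _root_.Cfsg.Agent.KO517236d.k34; rfl'

theorem tab_4 : ∀ s ∈ LL, ∀ t ∈ LL, ip s t = 0 → ∃ c ∈ LL, ip c s = 0 ∧ ip c t = 0 ∧ ∃ c' ∈ LL, ip c' s = 0 ∧
    ip c' t = 0 ∧ ip c' c = 0 ∧ dt s t c c' ∣ 24 ∧
    ∀ u ∈ LL, ip u s = 0 → ip u t = 0 → (u = c ∨ u = ng c) ∨ (u = c' ∨ u = ng c') := by (first | (refine of_decide_eq_true ?_; rewrite [Cfsg.Agent.KO517236d.e0, Cfsg.Agent.KO517236d.e19.{0}, Cfsg.Agent.KO517236d.e23, Cfsg.Agent.KO517236d.e9, Cfsg.Agent.KO517236d.e25, Cfsg.Agent.KO517236d.e26.{0}, Cfsg.Agent.KO517236d.e15, Cfsg.Agent.KO517236d.e32, Cfsg.Agent.KO517236d.e34, Cfsg.Agent.KO517236d.e2, Cfsg.Agent.KO517236d.e22.{0, 0}, Cfsg.Agent.KO517236d.e33]; decide +kernel) | decide +kernel)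

private noncomputable def _root_.Cfsg.Agent.KO517236d.k3 : type_of% @Bool.decEq := @(fun x0 x1 => @Bool.rec.{1} @(fun x2 => @Decidable (@Eq.{1} _ @x2 @x1)) (@Bool.rec.{1} @(fun x2 => @Decidable (@Eq.{1} _ @Bool.false @x2)) (@Decidable.isTrue _ (@rfl.{1} _ _)) (@Decidable.isFalse _ @(fun x2 => @Bool.noConfusion.{0} _ _ _ @x2)) @x1) (@Bool.rec.{1} @(fun x2 => @Decidable (@Eq.{1} _ @Bool.true @x2)) (@Decidable.isFalse _ @(fun x2 => @Bool.noConfusion.{0} _ _ _ @x2)) (@Decidable.isTrue _ (@rfl.{1} _ _)) @x1) @x0)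
private theorem _root_.Cfsg.Agent.KO517236d.e3 : @Bool.decEq = @_root_.Cfsg.Agent.KO517236d.k3 := by delta _root_.Cfsg.Agent.KO517236d.k3; rfl'
private noncomputable def _root_.Cfsg.Agent.KO517236d.k6.{ku0} : type_of% @List.instDecidableMemOfLawfulBEq.{ku0} := @(fun x0 x1 x2 x3 x4 => @Decidable.rec.{1} _ @(fun x5 => @Decidable (@Membership.mem.{ku0, ku0} _ _ _ @x4 @x3)) @(fun x5 => @Decidable.isFalse _ (@decidable_of_decidable_of_iff._proof_1 _ _ (@List.instDecidableMemOfLawfulBEq._proof_1.{ku0} _ _ _ @x3 @x4) @x5)) @(fun x5 => @Decidable.isTrue _ (@Iff.mp _ _ (@List.instDecidableMemOfLawfulBEq._proof_1.{ku0} _ _ _ @x3 @x4) @x5)) (@Cfsg.Agent.KO517236d.k3 (@List.elem.{ku0} _ @x1 @x3 @x4) @Bool.true))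
private theorem _root_.Cfsg.Agent.KO517236d.e6.{ku0} : @List.instDecidableMemOfLawfulBEq.{ku0} = @_root_.Cfsg.Agent.KO517236d.k6.{ku0} := by delta _root_.Cfsg.Agent.KO517236d.k6; rewrite [← Cfsg.Agent.KO517236d.e3]; rfl'
private noncomputable def _root_.Cfsg.Agent.KO517236d.k35 : type_of% @instDecidableNot := @(fun x0 x1 => @Decidable.rec.{1} _ @(fun x2 => @Decidable (¬ @x0)) @(fun x2 => @Decidable.isTrue _ @x2) @(fun x2 => @Decidable.isFalse _ (@absurd.{0} _ _ @x2)) @x1)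
private theorem _root_.Cfsg.Agent.KO517236d.e35 : @instDecidableNot = @_root_.Cfsg.Agent.KO517236d.k35 := by delta _root_.Cfsg.Agent.KO517236d.k35; rfl'

theorem tab_5L : ∀ s ∈ LL, ∀ t ∈ LL, ip s t ≠ 0 → (s = t ∨ s = ng t) ∨ pl s t ∈ PL := by (first | (refine of_decide_eq_true ?_; rewrite [Cfsg.Agent.KO517236d.e0, Cfsg.Agent.KO517236d.e19.{0}, Cfsg.Agent.KO517236d.e23, Cfsg.Agent.KO517236d.e35, Cfsg.Agent.KO517236d.e25, Cfsg.Agent.KO517236d.e2, Cfsg.Agent.KO517236d.e22.{0, 0}, Cfsg.Agent.KO517236d.e33, Cfsg.Agent.KO517236d.e6.{0}, Cfsg.Agent.KO517236d.e31]; decide +kernel) | decide +kernel)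

theorem tab_5S : ∀ s ∈ SS, ∀ t ∈ SS, ip s t ≠ 0 → (s = t ∨ s = ng t) ∨ pl s t ∈ PS := by (first | (refine of_decide_eq_true ?_; rewrite [Cfsg.Agent.KO517236d.e0, Cfsg.Agent.KO517236d.e19.{0}, Cfsg.Agent.KO517236d.e23, Cfsg.Agent.KO517236d.e35, Cfsg.Agent.KO517236d.e25, Cfsg.Agent.KO517236d.e2, Cfsg.Agent.KO517236d.e22.{0, 0}, Cfsg.Agent.KO517236d.e33, Cfsg.Agent.KO517236d.e6.{0}, Cfsg.Agent.KO517236d.e31]; decide +kernel) | decide +kernel)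

theorem tab_5 : ∀ p ∈ PL, ∀ q ∈ PS, pr p q ∣ 24 := by (first | (refine of_decide_eq_true ?_; rewrite [Cfsg.Agent.KO517236d.e0, Cfsg.Agent.KO517236d.e19.{0}, Cfsg.Agent.KO517236d.e30]; decide +kernel) | decide +kernel)

theorem tab_bar : ∀ r < 48, ip (vt (vec chevF4 4 (TwF4.Rel.bar r))) (vt (vec chevF4 4 (TwF4.Rel.bar r))) +
    ip (vt (vec chevF4 4 r)) (vt (vec chevF4 4 r)) = 6 := by decide +kernel

end Cfsg.Agent.Cam.F42
end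

-- part: Cam/F42/Comb
section
/-!
# S3689, S3690, the row `²F₄(q)`: self-dual Levi subsystems of `F₄` (helper90)

`comb` : let `Λ` be a proper sublattice, saturated at `2` and `3`, whose roots `Ψ ≠ ∅` are permuted by a map `g` that
interchanges the lengths.  Then `Ψ` is of type `A₁ Ã₁` or `B₂`, some `w ∈ W` interchanges `Ψ` and `Θ = Ψ^⊥`, and the
stabilizer of `Ψ` and `Θ` is generated by the reflections of `Ψ ∪ Θ`.
-/

set_option autoImplicit false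
set_option linter.unusedSectionVars false

namespace Cfsg.Agent.Cam.F42

open CoxeterSystem Cfsg.Lie Cfsg.Agent.ChevalleyStructure Cfsg.Agent.ChevalleyStructure.CoxeterGeom
  Cfsg.Agent.ChevalleyStructure.CoxeterGeomTypes Cfsg.Agent.Tits.Roots Cfsg.Agent.Nodes.Coroot
  Cfsg.Agent.Nodes.RGDChev Cfsg.Agent.Nodes.KindF Cfsg.Agent.Nodes.KindChev Cfsg.Agent.UGT.U2.FOne.FFour

/-! ### vectors -/

/-- the invariant form -/
def bf (a b : Fin 4 → ℤ) : ℤ := ip (vt a) (vt b)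

/-- the determinant -/
def dv (a b c e : Fin 4 → ℤ) : ℤ := dt (vt a) (vt b) (vt c) (vt e)

/-- long roots -/
def Lg (a : Fin 4 → ℤ) : Prop := vt a ∈ LL

/-- short roots -/
def Sh (a : Fin 4 → ℤ) : Prop := vt a ∈ SS

/-- equal up to sign -/
def PM (a b : Fin 4 → ℤ) : Prop := a = b ∨ a = -b

theorem vt_inj {a b : Fin 4 → ℤ} (h : vt a = vt b) : a = b := by
  simp only [vt, Prod.mk.injEq] at h
  funext i
  fin_cases i
  exacts [h.1, h.2.1, h.2.2.1, h.2.2.2]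

theorem pm_of {a b : Fin 4 → ℤ} (h : vt a = vt b ∨ vt a = ng (vt b)) : PM a b :=
  h.imp vt_inj fun h => vt_inj (b := -b) h

theorem bf_comm (a b : Fin 4 → ℤ) : bf a b = bf b a := by
  simp only [bf, ip, vt]; ring

theorem bf_add (a b c : Fin 4 → ℤ) : bf (a + b) c = bf a c + bf b c := by
  simp only [bf, ip, vt, Pi.add_apply]; ring

theorem bf_sub (a b c : Fin 4 → ℤ) : bf (a - b) c = bf a c - bf b c := by
  simp only [bf, ip, vt, Pi.sub_apply]; ring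

theorem bf_neg (a c : Fin 4 → ℤ) : bf (-a) c = -bf a c := by
  simp only [bf, ip, vt, Pi.neg_apply]; ring

theorem bf_smul (n : ℤ) (a c : Fin 4 → ℤ) : bf (n • a) c = n * bf a c := by
  simp only [bf, ip, vt, Pi.smul_apply, smul_eq_mul]; ring

theorem cramer (a b c e y : Fin 4 → ℤ) :
    dv a b c e • y = dv y b c e • a + dv a y c e • b + dv a b y e • c + dv a b c y • e := by
  apply vt_inj
  simp only [vt, dv, dt, pr, pl, Pi.add_apply, Pi.smul_apply, smul_eq_mul, Prod.mk.injEq]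
  refine ⟨?_, ?_, ?_, ?_⟩ <;> ring

theorem qf_eq (a b : Fin 4 → ℤ) : qf AF d a b = bf a b := by
  have h : AF = ![![2, -1, 0, 0], ![-1, 2, -2, 0], ![0, -1, 2, -1], ![0, 0, -1, 2]] := by decide +kernel
  rw [h]
  simp only [qf, pairing, d, Fin.sum_univ_four, bf, ip, vt, _root_.Nat.succ_eq_add_one, _root_.Nat.reduceAdd, _root_.Int.reduceNeg, _root_.Matrix.cons_val', _root_.Matrix.cons_val_fin_one, _root_.Fin.isValue, _root_.Matrix.cons_val_zero, _root_.Matrix.cons_val_one, _root_.Matrix.cons_val, _root_.neg_mul, _root_.one_mul, _root_.MulZeroClass.zero_mul, _root_.add_zero, _root_.zero_add]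
  ring

theorem Lg.bf {a : Fin 4 → ℤ} (h : Lg a) : bf a a = 4 := tab_L _ h

theorem Sh.bf {a : Fin 4 → ℤ} (h : Sh a) : bf a a = 2 := tab_S _ h

theorem PM.refl (a : Fin 4 → ℤ) : PM a a := Or.inl rfl

theorem PM.symm {a b : Fin 4 → ℤ} (h : PM a b) : PM b a := by
  rcases h with rfl | rfl
  · exact Or.inl rfl
  · exact Or.inr (_root_.neg_neg _).symm

theorem PM.trans {a b c : Fin 4 → ℤ} (h : PM a b) (h' : PM b c) : PM a c := by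
  rcases h with rfl | rfl
  · exact h'
  · rcases h' with rfl | rfl
    · exact Or.inr rfl
    · exact Or.inl (_root_.neg_neg _)

theorem PM.orth {a b c : Fin 4 → ℤ} (h : PM a b) : bf a c = 0 ↔ bf b c = 0 := by
  rcases h with rfl | rfl
  · rfl
  · rw [bf_neg, neg_eq_zero]

theorem PM.map {a b : Fin 4 → ℤ} (h : PM a b) (f : (Fin 4 → ℤ) →ₗ[ℤ] (Fin 4 → ℤ)) : PM (f a) (f b) := by
  rcases h with rfl | rfl
  · exact Or.inl rfl
  · exact Or.inr (map_neg f b)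

/-! ### roots and reflections -/

variable {W : Type} [Group W] (cs : CoxeterSystem CoxeterMatrix.F₄ W)

/-- roots -/
abbrev Rt (a : Fin 4 → ℤ) : Prop := IsRoot cs isType.isCartan a

/-- the action of the Weyl group -/
noncomputable abbrev ac (w : W) : (Fin 4 → ℤ) →ₗ[ℤ] (Fin 4 → ℤ) := rep cs isType.isCartan w

/-- `s` is the reflection of `k` -/
def IsRf (s : W) (k : Fin 4 → ℤ) : Prop := ∀ x, ac cs s x = x - cpr cs isType.isCartan x k • k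

theorem rt_iff {a : Fin 4 → ℤ} : Rt cs a ↔ Lg a ∨ Sh a := by
  rw [Rt, isRoot_iff isType cs, H899.RG.Short.nroots]
  constructor
  · rintro ⟨r, hr, rfl⟩
    exact tab_vec r hr
  · intro h
    obtain ⟨r, hr, e⟩ := tab_vec' (vt a) (List.mem_append.2 h)
    exact ⟨r, hr, vt_inj e⟩

theorem Lg.rt {a : Fin 4 → ℤ} (h : Lg a) : Rt cs a := (rt_iff cs).2 (Or.inl h)

theorem Sh.rt {a : Fin 4 → ℤ} (h : Sh a) : Rt cs a := (rt_iff cs).2 (Or.inr h)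

variable {cs}

theorem lg_of {a : Fin 4 → ℤ} (h : Rt cs a) (h4 : bf a a = 4) : Lg a :=
  ((rt_iff cs).1 h).resolve_right fun h2 => by have := h2.bf; omega

theorem sh_of {a : Fin 4 → ℤ} (h : Rt cs a) (h2 : bf a a = 2) : Sh a :=
  ((rt_iff cs).1 h).resolve_left fun h4 => by have := h4.bf; omega

theorem bf_ne {a : Fin 4 → ℤ} (h : Rt cs a) : bf a a ≠ 0 := by
  rcases (rt_iff cs).1 h with h | h <;> rw [h.bf] <;> norm_num

theorem bf_ac (w : W) (a b : Fin 4 → ℤ) : bf (ac cs w a) (ac cs w b) = bf a b := by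
  rw [← qf_eq, ← qf_eq]
  exact qf_rep cs isType.isCartan kd.hd w a b

theorem cpr_bf {k : Fin 4 → ℤ} (hk : Rt cs k) (x : Fin 4 → ℤ) : cpr cs isType.isCartan x k * bf k k = 2 * bf x k := by
  rw [← qf_eq, ← qf_eq]
  exact H899.RG.Short.cpr_qf cs hk

theorem cpr_eq_zero {k : Fin 4 → ℤ} (hk : Rt cs k) (x : Fin 4 → ℤ) : cpr cs isType.isCartan x k = 0 ↔ bf x k = 0 := by
  have h1 := cpr_bf hk x
  constructor
  · intro h
    rw [h] at h1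
    omega
  · intro h
    rw [h, mul_zero] at h1
    exact (mul_eq_zero.1 h1).resolve_right (bf_ne hk)

theorem Lg.ac {a : Fin 4 → ℤ} (h : Lg a) (w : W) : Lg (ac cs w a) :=
  lg_of ((h.rt cs).act w) ((bf_ac w a a).trans h.bf)

theorem Sh.ac {a : Fin 4 → ℤ} (h : Sh a) (w : W) : Sh (ac cs w a) :=
  sh_of ((h.rt cs).act w) ((bf_ac w a a).trans h.bf)

theorem ac_mul (v w : W) (x : Fin 4 → ℤ) : ac cs (v * w) x = ac cs v (ac cs w x) := rep_mul_apply cs _ v w x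

theorem exists_rf {k : Fin 4 → ℤ} (hk : Rt cs k) : ∃ s, IsRf cs s k := by
  have : Finite W := finite_W isType cs
  exact Nodes.KindBase.exists_refl cs _ hk

theorem IsRf.orth {s : W} {k : Fin 4 → ℤ} (h : IsRf cs s k) (hk : Rt cs k) {x : Fin 4 → ℤ} (hx : bf x k = 0) :
    ac cs s x = x := by
  rw [h, (cpr_eq_zero hk x).2 hx, zero_smul, sub_zero]

theorem IsRf.self {s : W} {k : Fin 4 → ℤ} (h : IsRf cs s k) (hk : Rt cs k) : ac cs s k = -k := by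
  have h1 := cpr_bf hk k
  rw [h, mul_right_cancel₀ (bf_ne hk) h1, two_smul]
  abel

/-- `s` interchanges `y₁` and `y₂` and fixes their orthogonal complement -/
structure Swp (cs : CoxeterSystem CoxeterMatrix.F₄ W) (s : W) (y₁ y₂ : Fin 4 → ℤ) : Prop where
  e1 : ac cs s y₁ = y₂
  e2 : ac cs s y₂ = y₁
  fx : ∀ z, bf z y₁ = 0 → bf z y₂ = 0 → ac cs s z = z

theorem swp_of {s : W} {k y₁ y₂ : Fin 4 → ℤ} (hs : IsRf cs s k) (hk : Rt cs k) {n : ℤ} (hn : n ≠ 0)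
    (e : n • k = y₁ - y₂) (h0 : bf y₁ y₂ = 0) (h1 : bf y₁ y₁ = bf y₂ y₂) : Swp cs s y₁ y₂ := by
  have a1 : n * bf k y₁ = bf y₁ y₁ := by rw [← bf_smul, e, bf_sub, bf_comm y₂, h0, sub_zero]
  have a2 : n * bf k y₂ = -bf y₁ y₁ := by rw [← bf_smul, e, bf_sub, h0, h1, zero_sub]
  have a3 : n * bf k k = bf k y₁ - bf k y₂ := by rw [← bf_smul, e, bf_sub, bf_comm y₁, bf_comm y₂]
  have a4 : bf k y₂ = -bf k y₁ := mul_left_cancel₀ hn (by rw [a2, mul_neg, a1])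
  have c1 : cpr cs isType.isCartan y₁ k = n :=
    mul_right_cancel₀ (bf_ne hk) (by rw [cpr_bf hk, a3, a4, bf_comm y₁]; ring)
  have c2 : cpr cs isType.isCartan y₂ k = -n :=
    mul_right_cancel₀ (bf_ne hk) (by rw [cpr_bf hk, neg_mul, a3, bf_comm y₂, a4]; ring)
  refine ⟨by rw [hs, c1, e]; abel, by rw [hs, c2, neg_smul, e]; abel, fun z z1 z2 => hs.orth hk ?_⟩
  have a5 : n * bf k z = 0 := by rw [← bf_smul, e, bf_sub, bf_comm y₁, bf_comm y₂, z1, z2, sub_zero]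
  rw [bf_comm]
  exact (mul_eq_zero.1 a5).resolve_left hn

theorem exists_half {y₁ y₂ : Fin 4 → ℤ} (h1 : Lg y₁) (h2 : Lg y₂) (h0 : bf y₁ y₂ = 0) :
    ∃ k, Sh k ∧ (2 : ℤ) • k = y₁ - y₂ := by
  obtain ⟨u, hu, e⟩ := tab_1 _ h1 _ h2 h0
  exact ⟨tv u, hu, by rw [two_smul]; exact vt_inj e⟩

theorem exists_swpL {y₁ y₂ : Fin 4 → ℤ} (h1 : Lg y₁) (h2 : Lg y₂) (h0 : bf y₁ y₂ = 0) : ∃ s, Swp cs s y₁ y₂ := by
  obtain ⟨k, hk, e⟩ := exists_half h1 h2 h0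
  obtain ⟨s, hs⟩ := exists_rf (hk.rt cs)
  exact ⟨s, swp_of hs (hk.rt cs) two_ne_zero e h0 (by rw [h1.bf, h2.bf])⟩

theorem exists_swpS {y₁ y₂ : Fin 4 → ℤ} (h1 : Sh y₁) (h2 : Sh y₂) (h0 : bf y₁ y₂ = 0) : ∃ s, Swp cs s y₁ y₂ := by
  have hk : Lg (y₁ - y₂) := tab_2 _ h1 _ h2 h0
  obtain ⟨s, hs⟩ := exists_rf (hk.rt cs)
  exact ⟨s, swp_of hs (hk.rt cs) one_ne_zero (one_smul _ _) h0 (by rw [h1.bf, h2.bf])⟩

/-! ### orthogonal frames -/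

/-- four mutually orthogonal roots -/
structure Frm (cs : CoxeterSystem CoxeterMatrix.F₄ W) (x₁ x₂ x₃ x₄ : Fin 4 → ℤ) : Prop where
  r1 : Rt cs x₁
  r2 : Rt cs x₂
  r3 : Rt cs x₃
  r4 : Rt cs x₄
  o12 : bf x₁ x₂ = 0
  o31 : bf x₃ x₁ = 0
  o32 : bf x₃ x₂ = 0
  o41 : bf x₄ x₁ = 0
  o42 : bf x₄ x₂ = 0
  o43 : bf x₄ x₃ = 0
  dvd : dv x₁ x₂ x₃ x₄ ∣ 24

variable {x₁ x₂ x₃ x₄ : Fin 4 → ℤ}

theorem Frm.dv_ne (h : Frm cs x₁ x₂ x₃ x₄) : dv x₁ x₂ x₃ x₄ ≠ 0 := fun h0 => by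
  have := h.dvd
  rw [h0, zero_dvd_iff] at this
  norm_num at this

theorem Frm.span (h : Frm cs x₁ x₂ x₃ x₄) {y : Fin 4 → ℤ} (h3 : bf y x₃ = 0) (h4 : bf y x₄ = 0) :
    ∃ c₁ c₂ : ℤ, dv x₁ x₂ x₃ x₄ • y = c₁ • x₁ + c₂ • x₂ := by
  have e := cramer x₁ x₂ x₃ x₄ y
  have e3 := congrArg (bf · x₃) e
  have e4 := congrArg (bf · x₄) e
  simp only [bf_add, bf_smul, h3, h4, bf_comm x₁ x₃, bf_comm x₂ x₃, bf_comm x₁ x₄, bf_comm x₂ x₄, bf_comm x₃ x₄, h.o31,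
    h.o32, h.o41, h.o42, h.o43, mul_zero, zero_add, add_zero] at e3 e4
  rw [(mul_eq_zero.1 e3.symm).resolve_right (bf_ne h.r3), (mul_eq_zero.1 e4.symm).resolve_right (bf_ne h.r4),
    zero_smul, zero_smul, add_zero, add_zero] at e
  exact ⟨_, _, e⟩

theorem Frm.eq_one (h : Frm cs x₁ x₂ x₃ x₄) {v : W} (h1 : ac cs v x₁ = x₁) (h2 : ac cs v x₂ = x₂)
    (h3 : ac cs v x₃ = x₃) (h4 : ac cs v x₄ = x₄) : v = 1 := by
  refine eq_one_of_fix cs isType.isCartan v fun i => ?_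
  have e := congrArg (ac cs v) (cramer x₁ x₂ x₃ x₄ (sr i))
  rw [map_add, map_add, map_add, map_smul, map_smul, map_smul, map_smul, map_smul, h1, h2, h3, h4, ← cramer] at e
  exact smul_right_injective _ h.dv_ne e

/-- removing a sign -/
theorem step {H : Subgroup W} {v : W} {x : Fin 4 → ℤ} (hx : Rt cs x) (hH : ∃ s ∈ H, IsRf cs s x)
    (hv : PM (ac cs v x) x) : ∃ v', (v' ∈ H → v ∈ H) ∧ ac cs v' x = x ∧
      ∀ z, bf (ac cs v z) x = 0 → ac cs v' z = ac cs v z := by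
  rcases hv with hv | hv
  · exact ⟨v, id, hv, fun _ _ => rfl⟩
  · obtain ⟨s, hs, hr⟩ := hH
    refine ⟨s * v, fun h => (H.mul_mem_cancel_left hs).1 h, ?_, fun z hz => ?_⟩
    · rw [ac_mul, hv, map_neg, hr.self hx, _root_.neg_neg]
    · rw [ac_mul, hr.orth hx hz]

theorem Frm.mem (h : Frm cs x₁ x₂ x₃ x₄) {H : Subgroup W} (s1 : ∃ s ∈ H, IsRf cs s x₁) (s2 : ∃ s ∈ H, IsRf cs s x₂)
    (s3 : ∃ s ∈ H, IsRf cs s x₃) (s4 : ∃ s ∈ H, IsRf cs s x₄) {v : W} (h1 : PM (ac cs v x₁) x₁)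
    (h2 : PM (ac cs v x₂) x₂) (h3 : PM (ac cs v x₃) x₃) (h4 : PM (ac cs v x₄) x₄) : v ∈ H := by
  have o21 := (bf_comm _ _).trans h.o12
  have o13 := (bf_comm _ _).trans h.o31
  have o23 := (bf_comm _ _).trans h.o32
  obtain ⟨v₁, m1, a1, b1⟩ := step h.r1 s1 h1
  rw [← b1 _ (h2.orth.2 o21)] at h2
  rw [← b1 _ (h3.orth.2 h.o31)] at h3
  rw [← b1 _ (h4.orth.2 h.o41)] at h4
  obtain ⟨v₂, m2, a2, b2⟩ := step h.r2 s2 h2
  rw [← b2 _ (a1.symm ▸ h.o12)] at a1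
  rw [← b2 _ (h3.orth.2 h.o32)] at h3
  rw [← b2 _ (h4.orth.2 h.o42)] at h4
  obtain ⟨v₃, m3, a3, b3⟩ := step h.r3 s3 h3
  rw [← b3 _ (a1.symm ▸ o13)] at a1
  rw [← b3 _ (a2.symm ▸ o23)] at a2
  rw [← b3 _ (h4.orth.2 h.o43)] at h4
  obtain ⟨v₄, m4, a4, b4⟩ := step h.r4 s4 h4
  rw [← b4 _ (a1.symm ▸ (bf_comm _ _).trans h.o41)] at a1
  rw [← b4 _ (a2.symm ▸ (bf_comm _ _).trans h.o42)] at a2
  rw [← b4 _ (a3.symm ▸ (bf_comm _ _).trans h.o43)] at a3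
  refine m1 (m2 (m3 (m4 ?_)))
  rw [h.eq_one a1 a2 a3 a4]
  exact H.one_mem

/-- removing a transposition -/
theorem step2 {H : Subgroup W} {v : W} {y₁ y₂ : Fin 4 → ℤ} (r1 : Rt cs y₁) (r2 : Rt cs y₂) (h0 : bf y₁ y₂ = 0)
    (hH : ∃ s ∈ H, Swp cs s y₁ y₂) (h1 : PM (ac cs v y₁) y₁ ∨ PM (ac cs v y₁) y₂)
    (h2 : PM (ac cs v y₂) y₁ ∨ PM (ac cs v y₂) y₂) : ∃ v', (v' ∈ H → v ∈ H) ∧ PM (ac cs v' y₁) y₁ ∧
      PM (ac cs v' y₂) y₂ ∧ ∀ z, bf (ac cs v z) y₁ = 0 → bf (ac cs v z) y₂ = 0 → ac cs v' z = ac cs v z := by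
  have h3 : bf (ac cs v y₁) (ac cs v y₂) = 0 := (bf_ac v _ _).trans h0
  have key : ∀ {y}, Rt cs y → PM (ac cs v y₁) y → PM (ac cs v y₂) y → False := fun hy a b =>
    bf_ne hy (b.orth.1 ((bf_comm _ _).trans (a.orth.1 h3)))
  rcases h1 with h1 | h1
  · exact ⟨v, id, h1, h2.resolve_left (key r1 h1), fun _ _ _ => rfl⟩
  · obtain ⟨s, hs, hr⟩ := hH
    have h4 := h2.resolve_right (key r2 h1)
    refine ⟨s * v, fun h => (H.mul_mem_cancel_left hs).1 h, ?_, ?_, fun z z1 z2 => ?_⟩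
    · have := h1.map (ac cs s)
      rwa [hr.e2, ← ac_mul] at this
    · have := h4.map (ac cs s)
      rwa [hr.e1, ← ac_mul] at this
    · rw [ac_mul, hr.fx _ z1 z2]

/-! ### the subsystem -/

/-- the roots orthogonal to the roots in `Λ` -/
def Th (cs : CoxeterSystem CoxeterMatrix.F₄ W) (Λ : AddSubgroup (Fin 4 → ℤ)) : Set (Fin 4 → ℤ) :=
  {c | Rt cs c ∧ ∀ a, Rt cs a → a ∈ Λ → bf c a = 0}

/-- saturated at `2` and `3` -/
def Sat (Λ : AddSubgroup (Fin 4 → ℤ)) : Prop := ∀ n : ℤ, n ∣ 24 → ∀ x, n • x ∈ Λ → x ∈ Λ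

/-- the conclusion -/
structure Out (cs : CoxeterSystem CoxeterMatrix.F₄ W) (Λ : AddSubgroup (Fin 4 → ℤ)) (w : W) : Prop where
  sw : ∀ a, Rt cs a → (a ∈ Λ ↔ ac cs w a ∈ Th cs Λ)
  sw' : ∀ a, Rt cs a → (a ∈ Th cs Λ ↔ ac cs w a ∈ Λ)
  stab : ∀ H : Subgroup W, (∀ a, Rt cs a → a ∈ Λ ∨ a ∈ Th cs Λ → ∃ s ∈ H, IsRf cs s a) → ∀ v,
    (∀ a, Rt cs a → a ∈ Λ → ac cs v a ∈ Λ) → (∀ a ∈ Th cs Λ, ac cs v a ∈ Th cs Λ) → v ∈ H

variable {Λ : AddSubgroup (Fin 4 → ℤ)}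

/-- a frame adapted to `Λ` -/
structure Adp (cs : CoxeterSystem CoxeterMatrix.F₄ W) (Λ : AddSubgroup (Fin 4 → ℤ)) (x₁ x₂ x₃ x₄ : Fin 4 → ℤ) : Prop
    extends Frm cs x₁ x₂ x₃ x₄ where
  m1 : x₁ ∈ Λ
  m2 : x₂ ∈ Λ
  orth : ∀ a, Rt cs a → a ∈ Λ → bf a x₃ = 0 ∧ bf a x₄ = 0

theorem Adp.mem_iff (h : Adp cs Λ x₁ x₂ x₃ x₄) (hs : Sat Λ) {a : Fin 4 → ℤ} (ha : Rt cs a) :
    a ∈ Λ ↔ bf a x₃ = 0 ∧ bf a x₄ = 0 := by
  refine ⟨h.orth a ha, fun h1 => ?_⟩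
  obtain ⟨c₁, c₂, e⟩ := h.toFrm.span h1.1 h1.2
  exact hs _ h.dvd a (e ▸ add_mem (Λ.zsmul_mem h.m1 _) (Λ.zsmul_mem h.m2 _))

theorem Adp.th_iff (h : Adp cs Λ x₁ x₂ x₃ x₄) {c : Fin 4 → ℤ} (hc : Rt cs c) :
    c ∈ Th cs Λ ↔ bf c x₁ = 0 ∧ bf c x₂ = 0 := by
  refine ⟨fun h1 => ⟨h1.2 _ h.r1 h.m1, h1.2 _ h.r2 h.m2⟩, fun h1 => ⟨hc, fun a ha hm => ?_⟩⟩
  obtain ⟨c₁, c₂, e⟩ := h.toFrm.span (h.orth a ha hm).1 (h.orth a ha hm).2
  have e1 := congrArg (bf · c) e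
  simp only [bf_add, bf_smul, bf_comm x₁ c, bf_comm x₂ c, h1.1, h1.2, mul_zero, add_zero] at e1
  rw [bf_comm]
  exact (mul_eq_zero.1 e1).resolve_left h.toFrm.dv_ne

theorem Adp.sw (h : Adp cs Λ x₁ x₂ x₃ x₄) (hs : Sat Λ) {s t : W} (h1 : Swp cs s x₁ x₃) (h2 : Swp cs t x₂ x₄) :
    (∀ a, Rt cs a → (a ∈ Λ ↔ ac cs (s * t) a ∈ Th cs Λ)) ∧ ∀ a, Rt cs a → (a ∈ Th cs Λ ↔ ac cs (s * t) a ∈ Λ) := by
  have e1 : ac cs (s * t) x₁ = x₃ := by rw [ac_mul, h2.fx _ h.o12 ((bf_comm _ _).trans h.o41), h1.e1]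
  have e3 : ac cs (s * t) x₃ = x₁ := by rw [ac_mul, h2.fx _ h.o32 ((bf_comm _ _).trans h.o43), h1.e2]
  have e2 : ac cs (s * t) x₂ = x₄ := by rw [ac_mul, h2.e1, h1.fx _ h.o41 h.o43]
  have e4 : ac cs (s * t) x₄ = x₂ := by
    rw [ac_mul, h2.e2, h1.fx _ ((bf_comm _ _).trans h.o12) ((bf_comm _ _).trans h.o32)]
  constructor
  · intro a ha
    rw [h.mem_iff hs ha, h.th_iff (ha.act _), ← bf_ac (cs := cs) (s * t) a x₃, ← bf_ac (cs := cs) (s * t) a x₄, e3, e4]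
  · intro a ha
    rw [h.mem_iff hs (ha.act _), h.th_iff ha, ← bf_ac (cs := cs) (s * t) a x₁, ← bf_ac (cs := cs) (s * t) a x₂, e1, e2]

theorem Adp.th3 (h : Adp cs Λ x₁ x₂ x₃ x₄) : x₃ ∈ Th cs Λ := (h.th_iff h.r3).2 ⟨h.o31, h.o32⟩

theorem Adp.th4 (h : Adp cs Λ x₁ x₂ x₃ x₄) : x₄ ∈ Th cs Λ := (h.th_iff h.r4).2 ⟨h.o41, h.o42⟩

/-- type `A₁ Ã₁` -/
theorem out_A (hs : Sat Λ) {a b : Fin 4 → ℤ} (ha : Lg a) (hb : Sh b) (ma : a ∈ Λ) (mb : b ∈ Λ) (h0 : bf a b = 0)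
    (hL : ∀ x, Lg x → x ∈ Λ → PM x a) (hS : ∀ x, Sh x → x ∈ Λ → PM x b) : ∃ w, Out cs Λ w := by
  obtain ⟨s', l1, o1, o2, t', l2, o3, o4, o5, o6, u1, u2⟩ := tab_3 _ ha _ hb h0
  have l1' : Lg (tv s') := l1
  have l2' : Sh (tv t') := l2
  have A : Adp cs Λ a b (tv s') (tv t') :=
    { r1 := ha.rt cs, r2 := hb.rt cs, r3 := l1'.rt cs, r4 := l2'.rt cs, o12 := h0, o31 := o1, o32 := o2, o41 := o3,
      o42 := o4, o43 := o5, dvd := o6, m1 := ma, m2 := mb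
      orth := fun x hx mx => by
        rcases (rt_iff cs).1 hx with h | h
        · exact ⟨(hL x h mx).orth.2 ((bf_comm _ _).trans o1), (hL x h mx).orth.2 ((bf_comm _ _).trans o3)⟩
        · exact ⟨(hS x h mx).orth.2 ((bf_comm _ _).trans o2), (hS x h mx).orth.2 ((bf_comm _ _).trans o4)⟩ }
  obtain ⟨s, h1⟩ := exists_swpL (cs := cs) ha l1' ((bf_comm _ _).trans o1)
  obtain ⟨t, h2⟩ := exists_swpS (cs := cs) hb l2' ((bf_comm _ _).trans o4)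
  refine ⟨s * t, (A.sw hs h1 h2).1, (A.sw hs h1 h2).2, fun H hH v v1 v2 => ?_⟩
  have t3 := (A.th_iff (A.r3.act v)).1 (v2 _ A.th3)
  have t4 := (A.th_iff (A.r4.act v)).1 (v2 _ A.th4)
  exact A.toFrm.mem (hH _ A.r1 (Or.inl ma)) (hH _ A.r2 (Or.inl mb)) (hH _ A.r3 (Or.inr A.th3))
    (hH _ A.r4 (Or.inr A.th4)) (hL _ (ha.ac v) (v1 _ A.r1 ma)) (hS _ (hb.ac v) (v1 _ A.r2 mb))
    (pm_of (u1 _ (l1'.ac v) t3.1 t3.2)) (pm_of (u2 _ (l2'.ac v) t4.1 t4.2))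

/-- type `B₂` -/
theorem out_B (hs : Sat Λ) {a b : Fin 4 → ℤ} (ha : Lg a) (hb : Lg b) (ma : a ∈ Λ) (mb : b ∈ Λ) (h0 : bf a b = 0)
    (hL : ∀ x, Lg x → x ∈ Λ → PM x a ∨ PM x b)
    (hS : ∀ x, Sh x → x ∈ Λ → ∃ c₁ c₂ : ℤ, (2 : ℤ) • x = c₁ • a + c₂ • b) : ∃ w, Out cs Λ w := by
  obtain ⟨s', l1, o1, o2, t', l2, o3, o4, o5, o6, u1⟩ := tab_4 _ ha _ hb h0
  have l1' : Lg (tv s') := l1
  have l2' : Lg (tv t') := l2
  have key : ∀ y, bf y a = 0 → bf y b = 0 → ∀ x, Rt cs x → x ∈ Λ → bf x y = 0 := by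
    intro y y1 y2 x hx mx
    rcases (rt_iff cs).1 hx with h | h
    · rcases hL x h mx with h1 | h1
      · exact h1.orth.2 ((bf_comm _ _).trans y1)
      · exact h1.orth.2 ((bf_comm _ _).trans y2)
    · obtain ⟨c₁, c₂, e⟩ := hS x h mx
      have e1 := congrArg (bf · y) e
      simp only [bf_add, bf_smul, bf_comm a y, bf_comm b y, y1, y2, mul_zero, add_zero] at e1
      omega
  have A : Adp cs Λ a b (tv s') (tv t') :=
    { r1 := ha.rt cs, r2 := hb.rt cs, r3 := l1'.rt cs, r4 := l2'.rt cs, o12 := h0, o31 := o1, o32 := o2, o41 := o3,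
      o42 := o4, o43 := o5, dvd := o6, m1 := ma, m2 := mb
      orth := fun x hx mx => ⟨key (tv s') o1 o2 x hx mx, key (tv t') o3 o4 x hx mx⟩ }
  obtain ⟨s, h1⟩ := exists_swpL (cs := cs) ha l1' ((bf_comm _ _).trans o1)
  obtain ⟨t, h2⟩ := exists_swpL (cs := cs) hb l2' ((bf_comm _ _).trans o4)
  refine ⟨s * t, (A.sw hs h1 h2).1, (A.sw hs h1 h2).2, fun H hH v v1 v2 => ?_⟩
  have t3 := (A.th_iff (A.r3.act v)).1 (v2 _ A.th3)
  have t4 := (A.th_iff (A.r4.act v)).1 (v2 _ A.th4)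
  have o34 : bf (tv s') (tv t') = 0 := (bf_comm _ _).trans A.o43
  have s1 : ∃ s ∈ H, Swp cs s a b := by
    obtain ⟨k, hk, e⟩ := exists_half ha hb h0
    obtain ⟨r, hr, hr'⟩ := hH k (hk.rt cs) (Or.inl (hs 2 (by norm_num) k (e ▸ sub_mem ma mb)))
    exact ⟨r, hr, swp_of hr' (hk.rt cs) two_ne_zero e h0 (by rw [ha.bf, hb.bf])⟩
  have s2 : ∃ s ∈ H, Swp cs s (tv s') (tv t') := by
    obtain ⟨k, hk, e⟩ := exists_half l1' l2' o34
    have e1 := congrArg (bf · a) e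
    have e2 := congrArg (bf · b) e
    simp only [bf_sub, bf_smul, A.o31, A.o32, A.o41, A.o42] at e1 e2
    obtain ⟨r, hr, hr'⟩ := hH k (hk.rt cs) (Or.inr ((A.th_iff (hk.rt cs)).2 ⟨by omega, by omega⟩))
    exact ⟨r, hr, swp_of hr' (hk.rt cs) two_ne_zero e o34 (by rw [l1'.bf, l2'.bf])⟩
  have p3 := (u1 _ (l1'.ac (cs := cs) v) t3.1 t3.2).imp (pm_of (b := tv s')) (pm_of (b := tv t'))
  have p4 := (u1 _ (l2'.ac (cs := cs) v) t4.1 t4.2).imp (pm_of (b := tv s')) (pm_of (b := tv t'))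
  obtain ⟨v₁, m1, a1, a2, b1⟩ := step2 A.r1 A.r2 h0 s1 (hL _ (ha.ac v) (v1 _ A.r1 ma)) (hL _ (hb.ac v) (v1 _ A.r2 mb))
  rw [← b1 _ t3.1 t3.2] at p3
  rw [← b1 _ t4.1 t4.2] at p4
  obtain ⟨v₂, m2, a3, a4, b2⟩ := step2 A.r3 A.r4 o34 s2 p3 p4
  rw [← b2 _ (a1.orth.2 ((bf_comm _ _).trans A.o31)) (a1.orth.2 ((bf_comm _ _).trans A.o41))] at a1
  rw [← b2 _ (a2.orth.2 ((bf_comm _ _).trans A.o32)) (a2.orth.2 ((bf_comm _ _).trans A.o42))] at a2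
  exact m1 (m2 (A.toFrm.mem (hH _ A.r1 (Or.inl ma)) (hH _ A.r2 (Or.inl mb)) (hH _ A.r3 (Or.inr A.th3))
    (hH _ A.r4 (Or.inr A.th4)) a1 a2 a3 a4))

/-- a map on the roots that interchanges the lengths -/
structure Dual (cs : CoxeterSystem CoxeterMatrix.F₄ W) (g : (Fin 4 → ℤ) → (Fin 4 → ℤ)) : Prop where
  rt : ∀ a, Rt cs a → Rt cs (g a)
  len : ∀ a, Rt cs a → bf (g a) (g a) + bf a a = 6
  orth : ∀ a b, Rt cs a → Rt cs b → (bf (g a) (g b) = 0 ↔ bf a b = 0)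
  pm : ∀ a b, Rt cs a → Rt cs b → PM (g a) (g b) → PM a b

variable {g : (Fin 4 → ℤ) → (Fin 4 → ℤ)}

theorem Dual.lg (h : Dual cs g) {a : Fin 4 → ℤ} (ha : Lg a) : Sh (g a) :=
  sh_of (h.rt a (ha.rt cs)) (by have := h.len a (ha.rt cs); have := ha.bf; omega)

theorem Dual.sh (h : Dual cs g) {a : Fin 4 → ℤ} (ha : Sh a) : Lg (g a) :=
  lg_of (h.rt a (ha.rt cs)) (by have := h.len a (ha.rt cs); have := ha.bf; omega)

theorem Lg.neg {a : Fin 4 → ℤ} (cs : CoxeterSystem CoxeterMatrix.F₄ W) (h : Lg a) : Lg (-a) :=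
  lg_of (h.rt cs).neg (by rw [bf_neg, bf_comm, bf_neg, h.bf]; norm_num)

theorem eq_top_of (hs : Sat Λ) {a b c e : Fin 4 → ℤ} (ma : a ∈ Λ) (mb : b ∈ Λ) (mc : c ∈ Λ) (me : e ∈ Λ)
    (h : dv a b c e ∣ 24) : Λ = ⊤ := by
  rw [eq_top_iff]
  intro y _
  refine hs _ h y ?_
  rw [cramer]
  exact add_mem (add_mem (add_mem (Λ.zsmul_mem ma _) (Λ.zsmul_mem mb _)) (Λ.zsmul_mem mc _)) (Λ.zsmul_mem me _)

/-- **The self-dual Levi subsystems.** -/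
theorem comb (hs : Sat Λ) (hΛ : Λ ≠ ⊤) (hg : Dual cs g) (hm : ∀ a, Rt cs a → a ∈ Λ → g a ∈ Λ) {a₀ : Fin 4 → ℤ}
    (r0 : Rt cs a₀) (m0 : a₀ ∈ Λ) : ∃ w, Out cs Λ w := by
  -- no `A₂`
  have n0 : ∀ a b c e, Lg a → Lg b → Sh c → Sh e → a ∈ Λ → b ∈ Λ → c ∈ Λ → e ∈ Λ → bf a b ≠ 0 → ¬ PM a b →
      bf c e ≠ 0 → ¬ PM c e → False := fun a b c e la lb lc le ma mb mc me h1 h2 h3 h4 =>
    hΛ (eq_top_of hs ma mb mc me (tab_5 _ ((tab_5L _ la _ lb h1).resolve_left fun h => h2 (pm_of h)) _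
      ((tab_5S _ lc _ le h3).resolve_left fun h => h4 (pm_of h))))
  have nL : ∀ a b, Lg a → Lg b → a ∈ Λ → b ∈ Λ → ¬ PM a b → bf a b = 0 := fun a b la lb ma mb h2 => by
    by_contra h1
    exact n0 a b _ _ la lb (hg.lg la) (hg.lg lb) ma mb (hm _ (la.rt cs) ma) (hm _ (lb.rt cs) mb) h1 h2
      (fun h => h1 ((hg.orth _ _ (la.rt cs) (lb.rt cs)).1 h)) fun h => h2 (hg.pm _ _ (la.rt cs) (lb.rt cs) h)
  have nS : ∀ a b, Sh a → Sh b → a ∈ Λ → b ∈ Λ → ¬ PM a b → bf a b = 0 := fun a b la lb ma mb h2 => by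
    by_contra h1
    exact n0 _ _ a b (hg.sh la) (hg.sh lb) la lb (hm _ (la.rt cs) ma) (hm _ (lb.rt cs) mb) ma mb
      (fun h => h1 ((hg.orth _ _ (la.rt cs) (lb.rt cs)).1 h)) (fun h => h2 (hg.pm _ _ (la.rt cs) (lb.rt cs) h)) h1 h2
  obtain ⟨a, la, ma⟩ : ∃ a, Lg a ∧ a ∈ Λ := by
    rcases (rt_iff cs).1 r0 with h | h
    · exact ⟨a₀, h, m0⟩
    · exact ⟨_, hg.sh h, hm _ r0 m0⟩
  by_cases hL : ∀ x, Lg x → x ∈ Λ → PM x a
  · have lb := hg.lg la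
    have mb := hm _ (la.rt cs) ma
    refine out_A hs la lb ma mb ?_ hL fun x lx mx => hg.pm _ _ (lx.rt cs) (lb.rt cs)
      ((hL _ (hg.sh lx) (hm _ (lx.rt cs) mx)).trans (hL _ (hg.sh lb) (hm _ (lb.rt cs) mb)).symm)
    obtain ⟨s, hs'⟩ := exists_rf (lb.rt cs)
    have h1 := hL _ (la.ac (cs := cs) s) (by rw [hs']; exact sub_mem ma (Λ.zsmul_mem mb _))
    have h2 := cpr_bf (lb.rt cs) a
    rw [hs'] at h1
    rw [lb.bf] at h2
    rcases h1 with h1 | h1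
    · have h3 := congrArg (bf · (g a)) h1
      simp only [bf_sub, bf_smul, lb.bf] at h3
      omega
    · have h3 := congrArg (bf · a) h1
      simp only [bf_sub, bf_smul, bf_neg, la.bf, bf_comm (g a) a] at h3
      have h4 : cpr cs isType.isCartan a (g a) = bf a (g a) := by omega
      rw [h4] at h3
      have h5 : bf a (g a) * bf a (g a) = 8 := by omega
      have h6 : bf a (g a) ≤ 2 := by nlinarith only [h3]
      have h7 : -2 ≤ bf a (g a) := by nlinarith only [h3]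
      nlinarith only [h3, h6, h7]
  · push Not at hL
    obtain ⟨b, lb, mb, hab⟩ := hL
    have h0 : bf a b = 0 := (bf_comm _ _).trans (nL _ _ lb la mb ma hab)
    obtain ⟨k, lk, ek⟩ := exists_half la lb h0
    have mk : k ∈ Λ := hs 2 (by norm_num) k (ek ▸ sub_mem ma mb)
    have hka : bf k a = 2 := by
      have e := congrArg (bf · a) ek
      simp only [bf_sub, bf_smul, la.bf, bf_comm b a, h0] at e
      omega
    have hkb : bf k b = -2 := by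
      have e := congrArg (bf · b) ek
      simp only [bf_sub, bf_smul, lb.bf, h0] at e
      omega
    have hL : ∀ x, Lg x → x ∈ Λ → PM x a ∨ PM x b := by
      intro x lx mx
      by_contra h
      rw [not_or] at h
      have h1 := nL _ _ lx la mx ma h.1
      have h2 := nL _ _ lx lb mx mb h.2
      obtain ⟨j, lj, ej⟩ := exists_half la lx ((bf_comm _ _).trans h1)
      have mj : j ∈ Λ := hs 2 (by norm_num) j (ej ▸ sub_mem ma mx)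
      have e1 := congrArg (bf · k) ej
      have e2 := congrArg (bf · x) ek
      simp only [bf_sub, bf_smul, bf_comm a k, hka, bf_comm a x, bf_comm b x, bf_comm x k, h1, h2] at e1 e2
      have e3 : bf j k = 1 := by omega
      by_cases h3 : PM j k
      · rcases h3 with h3 | h3
        · rw [h3, lk.bf] at e3
          omega
        · rw [h3, bf_neg, lk.bf] at e3
          omega
      · have := nS _ _ lj lk mj mk h3
        omega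
    refine out_B hs la lb ma mb h0 hL fun x lx mx => ?_
    obtain ⟨j, lj, ej⟩ := exists_half la (lb.neg cs) (by rw [bf_comm, bf_neg, bf_comm, h0, neg_zero])
    have mj : j ∈ Λ := hs 2 (by norm_num) j (ej ▸ sub_mem ma (neg_mem mb))
    by_cases h1 : PM x k
    · rcases h1 with rfl | rfl
      · exact ⟨1, -1, by rw [ek]; module⟩
      · exact ⟨-1, 1, by rw [smul_neg, ek]; module⟩
    by_cases h2 : PM x j
    · rcases h2 with rfl | rfl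
      · exact ⟨1, 1, by rw [ej]; module⟩
      · exact ⟨-1, -1, by rw [smul_neg, ej]; module⟩
    exfalso
    have h3 := nS _ _ lx lk mx mk h1
    have h4 := nS _ _ lx lj mx mj h2
    have lc : Lg (k - x) := tab_2 _ lk _ lx ((bf_comm _ _).trans h3)
    have e1 := congrArg (bf · k) ej
    have e2 := congrArg (bf · a) ej
    have e3 := congrArg (bf · b) ej
    simp only [bf_sub, bf_smul, bf_neg, bf_comm a k, bf_comm b k, hka, hkb, la.bf, lb.bf, bf_comm b a, h0] at e1 e2 e3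
    have e4 : bf (k - x) j = 0 := by rw [bf_sub, h4, bf_comm k j]; omega
    rcases hL _ lc (sub_mem mk mx) with h5 | h5
    · have := h5.orth.1 e4
      rw [bf_comm] at this
      omega
    · have := h5.orth.1 e4
      rw [bf_comm] at this
      omega

end Cfsg.Agent.Cam.F42
end

-- part: Cam/F42/Swap
section
/-!
# S3689, S3690, the row `²F₄(q)`: the swapping element (helper90)

`swap` : for `x ∈ ²F₄(q)` of prime order `r ≥ 5` there is `n` such that `n P n⁻¹` centralizes `P` for every perfect subgroup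
`P` of `C(x)`.
-/

set_option autoImplicit false
set_option linter.unusedSectionVars false

namespace Cfsg.Agent.Cam.F42

open CoxeterSystem Cfsg.Lie Cfsg.Agent.ChevalleyStructure Cfsg.Agent.ChevalleyStructure.CoxeterGeom
  Cfsg.Agent.ChevalleyStructure.CoxeterGeomTypes Cfsg.Agent.Tits.Roots Cfsg.Agent.Nodes.Coroot
  Cfsg.Agent.Nodes.Reps Cfsg.Agent.Nodes.BNOf Cfsg.Agent.Nodes.RGDChev Cfsg.Agent.Nodes.KindF
  Cfsg.Agent.Nodes.KindChev Cfsg.Agent.UGT.U2.FOne.FFour Cfsg.Agent.DL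
open Cfsg.Agent.KFacts.RgdChevCoord Cfsg.Agent.BpExc Cfsg.Agent.BpExc.TorChev Cfsg.Agent.BpExc.TowChev
open scoped commutatorElement

section Gen

variable {p : ℕ} [Fact p.Prime] {k : Type} [Field k] [CharP k p] {Y : Type} [Group Y] {N : Type} [Fintype N]
  [DecidableEq N] {ρ : Y →* GL N k} {F : MulAut Y} {G : Subgroup Y} [IsAlgClosed k] (D : Datum p ρ F G)

theorem cpr_g {a b : D.I → ℤ} (ha : D.Rt a) (hb : D.Rt b) :
    cpr D.cs D.h (D.g a) (D.g b) * (p : ℤ) ^ D.ex b = (p : ℤ) ^ D.ex a * cpr D.cs D.h a b := by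
  have h1 := D.ψ_act (D.rf b) (D.g a)
  rw [D.Fw_rf hb, D.act_rf (D.g_root b hb), map_sub, map_zsmul, D.ψ_g ha, D.ψ_g hb, D.act_rf hb,
    cpr_smul D.cs D.h _ _ hb, sub_right_inj, smul_smul] at h1
  exact smul_left_injective ℤ hb.ne_zero h1

theorem cpr_g_eq_zero {a b : D.I → ℤ} (ha : D.Rt a) (hb : D.Rt b) :
    cpr D.cs D.h (D.g a) (D.g b) = 0 ↔ cpr D.cs D.h a b = 0 := by
  have h1 := cpr_g D ha hb
  constructor
  · intro h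
    rw [h, zero_mul] at h1
    exact (mul_eq_zero.1 h1.symm).resolve_left (D.q_pos a).ne'
  · intro h
    rw [h, mul_zero] at h1
    exact (mul_eq_zero.1 h1).resolve_right (D.q_pos b).ne'

/-- the elements of `W` with a representative in `M` -/
def repW (M : Subgroup Y) : Subgroup D.W where
  carrier := {w | ∃ m ∈ M, D.Rp w m}
  one_mem' := ⟨1, M.one_mem, rp_of_mem D.T.one_mem⟩
  mul_mem' := by
    rintro _ _ ⟨a, ha, ha'⟩ ⟨b, hb, hb'⟩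
    exact ⟨_, M.mul_mem ha hb, ha'.mul hb'⟩
  inv_mem' := by
    rintro _ ⟨a, ha, ha'⟩
    exact ⟨_, M.inv_mem ha, ha'.inv⟩

theorem S_comm {A B : Set (D.I → ℤ)} (h : ∀ a ∈ A, ∀ c ∈ B, ∀ u ∈ D.X a, ∀ v ∈ D.X c, u * v = v * u) {y z : Y}
    (hy : y ∈ D.S A) (hz : z ∈ D.S B) : y * z = z * y := by
  have h1 : D.S B ≤ Subgroup.centralizer (D.S A : Set Y) := RGD.Sup_le fun c hc => by
    rw [Subgroup.le_centralizer_iff]
    exact RGD.Sup_le fun a ha u hu => Subgroup.mem_centralizer_iff.2 fun v hv => (h a ha c hc u hu v hv).symm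
  exact Subgroup.mem_centralizer_iff.1 (h1 hz) y hy

/-- **An `F`-fixed element interchanging two commuting subsystem subgroups.** -/
theorem swap_of {A B : Set (D.I → ℤ)} (hA : ∀ a ∈ A, D.Rt a) (hB : ∀ a ∈ B, D.Rt a) (gA : ∀ a ∈ A, D.g a ∈ A)
    (gB : ∀ a ∈ B, D.g a ∈ B) (nA : ∀ a ∈ A, -a ∈ A) (nB : ∀ a ∈ B, -a ∈ B)
    (hc : ∀ a ∈ A, ∀ c ∈ B, ∀ u ∈ D.X a, ∀ v ∈ D.X c, u * v = v * u) {w : D.W}
    (h1 : ∀ a, D.Rt a → (a ∈ A ↔ D.act w a ∈ B)) (h2 : ∀ a, D.Rt a → (a ∈ B ↔ D.act w a ∈ A))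
    (hs : ∀ H : Subgroup D.W, (∀ a ∈ A ∪ B, D.rf a ∈ H) → ∀ v, (∀ a ∈ A, D.act v a ∈ A) → (∀ a ∈ B, D.act v a ∈ B) →
      v ∈ H) : ∃ n ∈ G, F n = n ∧ ∀ y ∈ D.S A, ∀ z ∈ D.S A, n * y * n⁻¹ * z = z * (n * y * n⁻¹) := by
  have hAB : ∀ a ∈ A ∪ B, D.Rt a := fun a ha => ha.elim (hA a) (hB a)
  obtain ⟨n₀, hn₀, -⟩ := D.exists_rp w
  have hv : D.Rp (w⁻¹ * D.Fw w) (n₀⁻¹ * F n₀) := hn₀.inv.mul (Datum.Rp.mapF hn₀)
  have key : ∀ {A B : Set (D.I → ℤ)}, (∀ a ∈ A, D.Rt a) → (∀ a ∈ A, D.g a ∈ A) → (∀ a ∈ B, D.g a ∈ B) →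
      (∀ a, D.Rt a → (a ∈ A ↔ D.act w a ∈ B)) → ∀ a ∈ A, D.act (w⁻¹ * D.Fw w) a ∈ A := by
    intro A B hA gA gB h1 a ha
    obtain ⟨b, hb, rfl⟩ := (D.g_bijOn hA gA).surjOn ha
    refine (h1 _ ((D.g_root b (hA b hb)).act _)).2 ?_
    have e : D.act w (D.act (w⁻¹ * D.Fw w) (D.g b)) = D.g (D.act w b) := by
      rw [D.g_act w (hA b hb)]
      exact (rep_mul_apply D.cs D.h _ _ _).symm.trans (by rw [mul_inv_cancel_left])
    exact e ▸ gB _ ((h1 b (hA b hb)).1 hb)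
  obtain ⟨m, hm, hm'⟩ := hs (repW D (D.T ⊔ D.S (A ∪ B))) (fun a ha => by
    obtain ⟨m, hm, hm'⟩ := D.exists_rp_rf (hAB a ha)
    exact ⟨m, sup_le_sup_left (sup_le (RGD.le_Sup ha) (RGD.le_Sup (ha.imp (nA a) (nB a)))) _ hm, hm'⟩) _
    (key hA gA gB h1) (key hB gB gA h2)
  have h3 : n₀⁻¹ * F n₀ ∈ D.T ⊔ D.S (A ∪ B) := by
    have h4 : D.Rp 1 (m⁻¹ * (n₀⁻¹ * F n₀)) := inv_mul_cancel (w⁻¹ * D.Fw w) ▸ hm'.inv.mul hv
    have h5 : m⁻¹ * (n₀⁻¹ * F n₀) ∈ D.T := (D.pr_eq_one_iff ⟨_, h4⟩).1 (Datum.Rp.pr_eq h4)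
    exact (Subgroup.mul_mem_cancel_left _ (inv_mem hm)).1 (Subgroup.mem_sup_left h5)
  obtain ⟨z, hz, e⟩ := D.lang_TS hAB (fun a ha => ha.imp (gA a) (gB a)) h3
  have hn : D.T ⊔ D.S (A ∪ B) ≤ Subgroup.normalizer (D.S A : Set Y) := by
    refine sup_le (D.T_le_normalizer hA) (RGD.Sup_le fun a ha => ?_)
    rcases ha with ha | ha
    · exact (RGD.le_Sup ha).trans Subgroup.le_normalizer
    · refine le_trans (fun u hu => Subgroup.mem_centralizer_iff.2 fun y hy => ?_) (Subgroup.centralizer_le_normalizer _)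
      exact S_comm D hc hy (RGD.le_Sup ha hu)
  refine ⟨n₀ * z⁻¹, mul_mem (Datum.Rp.mem_G hn₀) (inv_mem (sup_le D.T_le_G (D.S_le_G hAB) hz)), ?_, fun y hy u hu => ?_⟩
  · rw [map_mul, map_inv]
    calc F n₀ * (F z)⁻¹ = n₀ * (n₀⁻¹ * F n₀) * (F z)⁻¹ := by group
      _ = _ := by rw [e]; group
  · have h4 : z⁻¹ * y * z⁻¹⁻¹ ∈ D.S A := (Subgroup.mem_normalizer_iff.1 (hn (inv_mem hz)) y).1 hy
    have h5 := D.conj_mem_S hn₀ hA (fun a ha => (h1 a (hA a ha)).1 ha) h4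
    have h6 : n₀ * z⁻¹ * y * (n₀ * z⁻¹)⁻¹ = n₀ * (z⁻¹ * y * z⁻¹⁻¹) * n₀⁻¹ := by group
    rw [h6]
    exact (S_comm D hc hu h5).symm

theorem χ_pow (a : D.I → ℤ) {t : Y} (ht : t ∈ D.T) (n : ℕ) : D.χ a (t ^ n) = D.χ a t ^ n := by
  induction n with
  | zero => rw [pow_zero, pow_zero, D.χ_one]
  | succ n ih => rw [pow_succ, pow_succ, D.χ_mul a (pow_mem ht n) ht, ih]

theorem mem_Lam_of {t : Y} (ht : t ∈ D.T) {r : ℕ} (hr : t ^ r = 1) {n : ℤ} (hn : IsCoprime n r) {x : D.I → ℤ}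
    (hx : n • x ∈ D.Lam {t}) : x ∈ D.Lam {t} := by
  rintro _ rfl
  obtain ⟨a, b, e⟩ := hn
  have h1 := hx _ rfl
  have h2 := χ_pow D x ht r
  rw [D.χ_zsmul] at h1
  rw [hr, D.χ_one] at h2
  rw [← zpow_one (D.χ x _), ← e, zpow_add₀ (D.χ_ne_zero _ _), mul_comm a, mul_comm b, zpow_mul, zpow_mul, h1,
    zpow_natCast, ← h2, one_zpow, one_zpow, one_mul]

end Gen

/-- orthogonal root groups commute in characteristic two -/
theorem comm_orth {K : Type} [Field K] [CharP K 2] {W : Type} [Group W] (cs : CoxeterSystem CoxeterMatrix.F₄ W)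
    {a b : Fin 4 → ℤ} (ha : Rt cs a) (hb : Rt cs b) (h0 : bf a b = 0) {x v : ↥(chevF4.group K)}
    (hx : x ∈ XX chevF4 4 K a) (hv : v ∈ XX chevF4 4 K b) : x * v = v * x := by
  rcases (rt_iff cs).1 ha with la | la
  · exact (H899.RG.Short.comm_R cs ha hb (by rw [qf_eq, la.bf]) (by rw [qf_eq, h0]) hx hv).symm
  rcases (rt_iff cs).1 hb with lb | lb
  · exact H899.RG.Short.comm_R cs hb ha (by rw [qf_eq, lb.bf]) (by rw [qf_eq, bf_comm, h0]) hv hx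
  have hna := (qf_eq _ _).trans la.bf
  have hnb := (qf_eq _ _).trans lb.bf
  have hab := (qf_eq _ _).trans h0
  obtain ⟨r, hr, rfl⟩ := (isRoot_iff isType cs a).1 ha
  obtain ⟨s, hs, rfl⟩ := (isRoot_iff isType cs b).1 hb
  obtain ⟨t, rfl⟩ := (H899.RG.Short.mem_XX hr).1 hx
  obtain ⟨u, rfl⟩ := (H899.RG.Short.mem_XX hs).1 hv
  obtain ⟨h3, -, -, h6⟩ := H899.RG.Short.tab_Q r (H899.RG.Short.mem_shorts hr hna) s (H899.RG.Short.mem_shorts hs hnb) hab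
  have hsr : s ≠ r := by
    rintro rfl
    rw [la.bf] at h0
    omega
  have hneg : s ≠ chevF4.neg r := by
    rintro rfl
    rw [vec_neg isType hr, bf_comm, bf_neg, la.bf] at h0
    omega
  have hc : (H899.RG.Short.c1 r s : K) = 0 := by
    have h7 : (H899.RG.Short.c1 r s : K) * (H899.RG.Short.c1 r s : K) = 2 * 2 := by
      rw [← Int.cast_mul, h6]
      norm_num
    rw [CharTwo.two_eq_zero, mul_zero] at h7
    exact mul_self_eq_zero.1 h7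
  symm
  rw [← commutatorElement_eq_one_iff_mul_comm]
  apply Subtype.ext
  rw [H899.RG.Short.comm_ex hr hs hsr hneg]
  have h8 : chevF4.commWord K r s (-t) (-u) = [(H899.RG.Short.m1 r s, 0)] := by
    show (chevF4.commTerms r s).map _ = _
    rw [h3]
    simp only [List.map_cons, List.map_nil, hc, zero_mul]
  rw [h8, Elts.wordG_cons, Elts.wordG_nil, mul_one, Elts.xG_zero]
  rfl

section Alg

variable {k : Type} [Field k] [CharP k 2] [IsAlgClosed k] (hk : LocFin k) (m : ℕ)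

theorem dual_twist {n : ↥(chevF4.group k)} (hn : n ∈ (Tw.datF4 hk m).NN) :
    Dual CoxeterMatrix.F₄.toCoxeterSystem ((Tw.datF4 hk m).twist hn).g where
  rt := ((Tw.datF4 hk m).twist hn).g_root
  len a ha := by
    obtain ⟨r, hr, rfl⟩ := (isRoot_iff isType _ a).1 ha
    have h1 : ((Tw.datF4 hk m).twist hn).g (vec chevF4 4 r) = ac CoxeterMatrix.F₄.toCoxeterSystem ((Tw.datF4 hk m).pr n)
        (vec chevF4 4 (TwF4.Rel.bar (_root_.Cfsg.Agent.KFacts.RgdChevCoord.idx chevF4 4 (vec chevF4 4 r)))) := rfl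
    rw [idx_vec isType hr] at h1
    exact (congrArg (fun z => bf z z + _) h1).trans
      ((congrArg (· + _) (bf_ac _ _ _)).trans (tab_bar r (H899.RG.Short.lt48 hr)))
  orth a b ha hb := (cpr_eq_zero (((Tw.datF4 hk m).twist hn).g_root b hb) _).symm.trans
    ((cpr_g_eq_zero ((Tw.datF4 hk m).twist hn) ha hb).trans (cpr_eq_zero hb a))
  pm a b ha hb h := by
    rcases h with h | h
    · exact Or.inl (((Tw.datF4 hk m).twist hn).g_inj ha hb h)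
    · exact Or.inr (((Tw.datF4 hk m).twist hn).g_inj ha hb.neg (h.trans (((Tw.datF4 hk m).twist hn).g_neg hb).symm))

theorem χ_eq {a : Fin 4 → ℤ} (ha : Rt CoxeterMatrix.F₄.toCoxeterSystem a) {t : ↥(chevF4.group k)}
    (ht : t ∈ TT chevF4 k) : (Tw.datF4 hk m).χ a t = ch isType a t := by
  have h1 := (Tw.datF4 hk m).tor' ha ht 1
  obtain ⟨r, hr, rfl⟩ := (isRoot_iff isType _ a).1 ha
  have h2 := (act isType hr ht (K := k)).2 1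
  have h3 := (Tw.datF4 hk m).x_inj _ ha (h1.symm.trans h2)
  rwa [mul_one, mul_one] at h3

theorem lam_ne {t : ↥(chevF4.group k)} (ht : t ∈ TT chevF4 k) (h1 : t ≠ 1) : (Tw.datF4 hk m).Lam {t} ≠ ⊤ := by
  intro h
  obtain ⟨c, rfl⟩ := ((Tw.datF4 hk m).mem_T t).1 ht
  apply h1
  have h2 : c = 1 := funext fun i => by
    have h3 : (Tw.datF4 hk m).χ (sr i) ((Tw.datF4 hk m).τ c) = 1 := (h ▸ AddSubgroup.mem_top (sr i) :
      sr i ∈ (Tw.datF4 hk m).Lam {(Tw.datF4 hk m).τ c}) _ rfl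
    rw [Datum.χ_τ] at h3
    exact (Ex.chr_sr i c).symm.trans (Units.val_eq_one.1 h3)
  rw [h2, map_one]

theorem swap_tor {n t : ↥(chevF4.group k)} (hn : n ∈ (Tw.datF4 hk m).NN) (ht : t ∈ TT chevF4 k)
    (hF : (MulAut.conj n * Tw.steA k m) t = t) {r : ℕ} (hr : r.Prime) (h5 : 5 ≤ r) (htr : t ^ r = 1) (h1 : t ≠ 1) :
    ∃ y, (MulAut.conj n * Tw.steA k m) y = y ∧ ∀ a ∈ (Tw.datF4 hk m).S ((Tw.datF4 hk m).Sz {t}),
      ∀ b ∈ (Tw.datF4 hk m).S ((Tw.datF4 hk m).Sz {t}), y * a * y⁻¹ * b = b * (y * a * y⁻¹) := by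
  let D := (Tw.datF4 hk m).twist hn
  let cs := CoxeterMatrix.F₄.toCoxeterSystem
  have hT : ({t} : Set ↥(chevF4.group k)) ⊆ D.T := Set.singleton_subset_iff.2 ht
  have gA : ∀ a ∈ D.Sz {t}, D.g a ∈ D.Sz {t} := fun a ha => D.g_mem_Sz hT (by rintro _ rfl; exact hF) ha
  by_cases h0 : ∃ a, a ∈ D.Sz {t}
  swap
  · refine ⟨1, map_one _, fun a ha b _ => ?_⟩
    have h2 : (Tw.datF4 hk m).S ((Tw.datF4 hk m).Sz {t}) ≤ ⊥ := RGD.Sup_le fun c hc => (h0 ⟨c, hc⟩).elim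
    rw [Subgroup.mem_bot.1 (h2 ha)]
    group
  obtain ⟨a₀, ha₀⟩ := h0
  have hs : Sat (D.Lam {t}) := fun c hc x hx => by
    refine mem_Lam_of D ht htr (IsCoprime.of_isCoprime_of_dvd_left ?_ hc) hx
    refine Nat.isCoprime_iff_coprime.2 (Nat.Coprime.symm ((Nat.Prime.coprime_iff_not_dvd hr).2 fun h => ?_) :
      Nat.Coprime 24 r)
    rcases (Nat.Prime.dvd_mul hr).1 (show r ∣ 2 ^ 3 * 3 from h) with h2 | h2
    · have := Nat.le_of_dvd two_pos (hr.dvd_of_dvd_pow h2)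
      omega
    · have := Nat.le_of_dvd three_pos h2
      omega
  have hg := dual_twist hk m hn
  obtain ⟨w, hw⟩ := comb (cs := cs) hs (lam_ne hk m ht h1) hg (fun a ha hm => (gA a ⟨ha, hm⟩).2) ha₀.1 ha₀.2
  obtain ⟨y, -, h2, h3⟩ := swap_of D (A := D.Sz {t}) (B := Th cs (D.Lam {t})) D.Sz_root (fun _ h => h.1) gA
    (fun c hc => ⟨hg.rt c hc.1, fun a ha hm => by
      obtain ⟨b, hb, rfl⟩ := (D.g_bijOn D.Sz_root gA).surjOn ⟨ha, hm⟩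
      exact (hg.orth c b hc.1 hb.1).2 (hc.2 b hb.1 hb.2)⟩)
    (fun _ => D.Sz_neg) (fun c hc => ⟨hc.1.neg, fun a ha hm => (bf_neg c a).trans (neg_eq_zero.2 (hc.2 a ha hm))⟩)
    (fun a ha c hc u hu v hv => (comm_orth cs hc.1 ha.1 (hc.2 a ha.1 ha.2) hv hu).symm) (w := w)
    (fun a ha => (and_iff_right ha).trans (hw.sw a ha))
    (fun a ha => (hw.sw' a ha).trans (and_iff_right (ha.act w)).symm)
    (fun H hH v v1 v2 => hw.stab H (fun a ha hm => ⟨D.rf a, hH a (hm.imp_left fun h => ⟨ha, h⟩), D.act_rf ha⟩) v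
      (fun a ha hm => (v1 a ⟨ha, hm⟩).2) v2)
  exact ⟨y, h2, h3⟩

include hk in
theorem swap_alg {x : ↥(chevF4.group k)} (hF : Tw.steA k m x = x) {r : ℕ} (hr : r.Prime) (h5 : 5 ≤ r) (hx : x ^ r = 1)
    (h1 : x ≠ 1) : ∃ n, Tw.steA k m n = n ∧ ∀ (J : Subgroup ↥(chevF4.group k)) [Finite J], ⁅J, J⁆ = J →
      J ≤ Subgroup.centralizer {x} → ∀ a ∈ J, ∀ b ∈ J, n * a * n⁻¹ * b = b * (n * a * n⁻¹) := by
  obtain ⟨z, hz⟩ := TorAll.exists_toral isType 2 (Ex.lf_of_locFin hk) hr (by omega) hx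
  obtain ⟨y, -, hy, -, e⟩ := SB.Exc.Max.exists_conj_le_T (Tw.datF4 hk m) (Z := {x}) (by rintro _ rfl; exact hF)
    (Subgroup.mem_top z) (by rintro _ rfl; exact hz)
  have ht : y⁻¹ * x * y ∈ TT chevF4 k := by
    rw [e x rfl]
    exact hz
  have htr : (y⁻¹ * x * y) ^ r = 1 := by
    have h2 := conj_pow (a := y⁻¹) (b := x) (i := r)
    rw [inv_inv] at h2
    rw [h2, hx]
    group
  obtain ⟨n, h2, h3⟩ := swap_tor hk m hy ht (by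
    rw [MulAut.mul_apply, MulAut.conj_apply, map_mul, map_mul, map_inv, hF]; group) hr h5 htr
    (fun h => h1 (by
      calc x = y * (y⁻¹ * x * y) * y⁻¹ := by group
        _ = 1 := by rw [h]; group))
  refine ⟨y * n * y⁻¹, ?_, fun J _ hJ hC a ha b hb => ?_⟩
  · rw [MulAut.mul_apply, MulAut.conj_apply] at h2
    rw [map_mul, map_mul, map_inv]
    conv_rhs => rw [← h2]
    group
  have hfin : Finite ↥(J.map (MulAut.conj y⁻¹).toMonoidHom) := Finite.of_equiv _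
    (J.equivMapOfInjective _ (MulAut.conj y⁻¹).injective).toEquiv
  have h4 := perfect_leL isType CoxeterMatrix.F₄.toCoxeterSystem hk 2 ht hr htr
    (J := J.map (MulAut.conj y⁻¹).toMonoidHom) (by
      rintro _ ⟨c, hc, rfl⟩
      rw [Subgroup.mem_centralizer_singleton_iff]
      have h6 := Subgroup.mem_centralizer_singleton_iff.1 (hC hc)
      change y⁻¹ * c * y⁻¹⁻¹ * _ = _ * (y⁻¹ * c * y⁻¹⁻¹)
      calc _ = y⁻¹ * (c * x) * y := by group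
        _ = _ := by rw [h6]; group) (by rw [← Subgroup.map_commutator, hJ])
  have h6 : TorCent.MM CoxeterMatrix.F₄.toCoxeterSystem isType.isCartan (XX chevF4 4 k) (ch isType) (y⁻¹ * x * y) ≤
      (Tw.datF4 hk m).S ((Tw.datF4 hk m).Sz {y⁻¹ * x * y}) := RGD.Sup_mono fun c hc => ⟨hc.1, by
    rintro _ rfl
    exact (χ_eq hk m hc.1 ht).trans hc.2⟩
  have h7 := h3 _ (h6 (h4 ⟨a, ha, rfl⟩)) _ (h6 (h4 ⟨b, hb, rfl⟩))
  change n * (y⁻¹ * a * y⁻¹⁻¹) * n⁻¹ * (y⁻¹ * b * y⁻¹⁻¹) = y⁻¹ * b * y⁻¹⁻¹ * (n * (y⁻¹ * a * y⁻¹⁻¹) * n⁻¹) at h7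
  calc _ = y * (n * (y⁻¹ * a * y⁻¹⁻¹) * n⁻¹ * (y⁻¹ * b * y⁻¹⁻¹)) * y⁻¹ := by group
    _ = _ := by rw [h7]; group

end Alg

/-- **The swapping element.** -/
theorem swap {K : Type} [Field K] [Fintype K] {m : ℕ} (hK : Fintype.card K = 2 ^ (2 * m + 1))
    {x : ↥(twistedF4 K (2 ^ m))} {r : ℕ} (hr : r.Prime) (h5 : 5 ≤ r) (hx : x ^ r = 1) (h1 : x ≠ 1) :
    ∃ n, ∀ P : Subgroup ↥(twistedF4 K (2 ^ m)), ⁅P, P⁆ = P → P ≤ Subgroup.centralizer {x} →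
      ∀ a ∈ P, ∀ b ∈ P, n * a * n⁻¹ * b = b * (n * a * n⁻¹) := by
  obtain ⟨h2, h3, hk⟩ := Tw.setup' Nat.prime_two (Nat.succ_ne_zero _) hK
  let f : K →+* AlgebraicClosure K := algebraMap _ _
  have hinj := H759.TwF.eF_injective (m := m) f
  obtain ⟨n, hn, h4⟩ := swap_alg hk m (x := H759.TwF.eF m f x) (H759.TwF.ste_eF hK f x) hr h5
    (by rw [← map_pow, hx, map_one]) fun h => h1 (hinj (h.trans (map_one _).symm))
  obtain ⟨n, rfl⟩ := H759.TwF.exists_eF hK f hn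
  refine ⟨n, fun P hP hC a ha b hb => hinj ?_⟩
  have hfin : Finite ↥(P.map (H759.TwF.eF m f)) := Finite.of_equiv _ (P.equivMapOfInjective _ hinj).toEquiv
  have h6 := h4 (P.map (H759.TwF.eF m f)) (by rw [← Subgroup.map_commutator, hP]) (by
    rintro _ ⟨c, hc, rfl⟩
    rw [Subgroup.mem_centralizer_singleton_iff, ← map_mul, ← map_mul,
      Subgroup.mem_centralizer_singleton_iff.1 (hC hc)]) _ ⟨a, ha, rfl⟩ _ ⟨b, hb, rfl⟩
  simpa only [map_mul, map_inv] using h6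

end Cfsg.Agent.Cam.F42
end

private theorem dce_5fa6090fef33 : _root_.True := by
  try have : _root_.True := by simp only [_root_.Cfsg.Agent.DL.Tw.steA.congr_simp]
  try have : _root_.True := by simp only [_root_.Cfsg.Agent.Cam.F42.Rt.eq_1]
  try have : _root_.True := by simp only [_root_.Cfsg.Agent.Cam.F42.dv.eq_1]
  try have : _root_.True := by simp only [_root_.Cfsg.Agent.Cam.F42.pl.eq_1]
  try have : _root_.True := by simp only [_root_.Cfsg.Agent.Cam.F42.pr.eq_1]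
  try have : _root_.True := by simp only [_root_.Cfsg.Agent.Nodes.KindChev.qf.eq_1]
  try have : _root_.True := by simp only [_root_.Cfsg.Agent.Cam.F42.bf.eq_1]
  try have : _root_.True := by simp only [_root_.Cfsg.Agent.Cam.F42.dt.eq_1]
  try have : _root_.True := by simp only [_root_.Cfsg.Agent.Cam.F42.ip.eq_1]
  try have : _root_.True := by simp only [_root_.Cfsg.Agent.Cam.F42.vt.eq_1]
  try have : _root_.True := by simp only [_root_.Cfsg.Agent.H759.TwF.eF.congr_simp]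
  exact _root_.True.intro
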